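import Cfsg.Agent.Lib.MD.Crit
import Cfsg.Agent.Lib.Chev.OverE

/-!
Root subgroups of simply laced Chevalley groups, and certificates.
-/

set_option autoImplicit false
set_option linter.unusedSectionVars false

namespace Cfsg.Lib.MD

open Module Cfsg.Lib.Sz Cfsg.Lib.RepDeg Cfsg.Lib.CharDeg Cfsg.Lib.Chev Cfsg.Lib.Chev.RootSys
open scoped commutatorElement

variable {ι Φ : Type} [Fintype ι] [DecidableEq ι] [Fintype Φ] {R : RootSys ι Φ}

instance decLg (β : Φ) : Decidable (Lg R β) := inferInstanceAs (Decidable (∀ s, R.ln s ≤ R.ln β))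

instance decNn [DecidableEq Φ] (i : ι) (r : Φ) : Decidable (Nn R i r) :=
  inferInstanceAs (Decidable (_ ∧ _))

variable (R) in
/-- Decompositions of long positive roots into two positive roots. -/
def Dec (f : Φ → ℕ) (P : Φ → List (Φ × Φ)) (T : List Φ) : Prop :=
  T.Nodup ∧ ∀ β ∈ T, R.IsPos β ∧ ((P β).map Prod.fst).Nodup ∧
    ∀ p ∈ P β, R.IsPos p.1 ∧ R.IsPos p.2 ∧ R.α β = R.α p.1 + R.α p.2 ∧ f p.1 < f p.2

instance decDec [DecidableEq Φ] (f : Φ → ℕ) (P : Φ → List (Φ × Φ)) (T : List Φ) :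
    Decidable (Dec R f P T) :=
  @instDecidableAnd _ _ _ (@List.decidableBAll _ _ (fun _ => @instDecidableAnd _ _ _
    (@instDecidableAnd _ _ _ (List.decidableBAll _ _))) _)

theorem RG.bound {F : Type*} [Field F] [Finite F] {G : Type*} [Group G] [Finite G] {S : RG R F G}
    {V : Type*} [AddCommGroup V] [Module ℂ V] [FiniteDimensional ℂ V] {ρ : G →* End ℂ V}
    {ψ : AddChar F ℂ} (hψ : ψ ≠ 1) {i : ι} {m : ℕ} {par : ι → ι} {rk : ι → ℕ} {c : Φ → Φ × Φ}
    (h : Comb R S.e i m par rk c)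
    (hgen : ∀ r s k, R.α k = R.α r + R.α s → R.ln r = R.ln s → S.X k ≤ ⁅S.X r, S.X s⁆)
    {β : Φ} (hβ : Lg R β) {t : F} (ht : ρ (S.x β t) ≠ 1) {f : Φ → ℕ} {P : Φ → List (Φ × Φ)}
    {T : List Φ} (hP : Dec R f P T) (hT : ∀ β ∈ T, Lg R β) {l : List ℕ}
    (hl : T.map (fun β => ((P β).map fun p => S.e p.1).sum) = l) :
    (∃ d, 2 * Nat.card F ^ m ≤ Nat.card F * d ∧
      (Nat.card F - 1) * (Nat.card F + 1) * d ≤ finrank ℂ V) ∨
    S.D ρ ψ β = Nat.card F ^ m ∧ (Nat.card F - 1) * (l.map (Nat.card F ^ ·)).sum ≤ finrank ℂ V := by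
  classical
  have := RG.main hψ h hgen hβ ht (fun β => ((P β).map Prod.fst).toFinset) T.toFinset fun b hb => by
    obtain ⟨h1, -, h2⟩ := hP.2 b (List.mem_toFinset.1 hb)
    have h3 := hT b (List.mem_toFinset.1 hb)
    refine ⟨h3, h1, fun r hr => ?_⟩
    obtain ⟨p, hp, rfl⟩ := List.mem_map.1 (List.mem_toFinset.1 hr)
    obtain ⟨h4, h5, h6, h7⟩ := h2 p hp
    refine ⟨⟨h4, h3.pair_of_add h6, by have := ht_add h6; have := h5.ht_pos; omega⟩, fun s hs e => ?_⟩
    obtain ⟨p', hp', rfl⟩ := List.mem_map.1 (List.mem_toFinset.1 hs)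
    obtain ⟨-, -, h8, h9⟩ := h2 p' hp'
    rw [R.α_inj (add_left_cancel (h6.symm.trans e))] at h7
    rw [R.α_inj (add_left_cancel (h8.symm.trans (e.trans (add_comm _ _))))] at h9
    omega
  rwa [List.sum_toFinset _ hP.1, List.map_congr_left (g := (Nat.card F ^ ·) ∘
    fun β => ((P β).map fun p => S.e p.1).sum) fun b hb => by
      rw [List.sum_toFinset _ (hP.2 b hb).2.1, List.map_map]; rfl, ← List.map_map, hl] at this

variable {F : Type*} [Field F] {G : Type*} [Group G] {C : ChevSys R F G} {T : ChevTab R}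

theorem lg_of (hl : ∀ r s, R.ln r = R.ln s) (r : Φ) : Lg R r := fun s => (hl s r).le

theorem pair_eq_neg_one (hl : ∀ r s, R.ln r = R.ln s) {r s k : Φ} (e : R.α k = R.α r + R.α s) :
    R.pair r s = -1 := by
  have h1 := RootSys.pair_of_add e r
  have h2 := (lg_of hl k).pair_of_add e
  rw [pair_comm_of_ln (hl k r)] at h2
  rw [pair_self] at h1
  omega

theorem add_of_between (hl : ∀ r s, R.ln r = R.ln s) {r s k : Φ} (h : s ≠ R.neg r)
    (hk : R.Between r s k) : R.α k = R.α r + R.α s := by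
  have h1 := (lg_of hl r).ge_neg_one h
  have h2 : ¬ 0 ≤ R.pair r s := fun e => (lg_of hl r).not_between e k hk
  exact hk.of_A2 (fun r => (lg_of hl r).le_two) (by omega)
    (by rw [pair_comm_of_ln (hl s r)]; omega)

theorem comm_add (hT : T.StrongComm C.x) (hl : ∀ r s, R.ln r = R.ln s) {r s k : Φ}
    (e : R.α k = R.α r + R.α s) : ∃ N : F, N * N = 1 ∧ ∀ t u, ⁅C.x r t, C.x s u⁆ = C.x k (N * t * u) := by
  classical
  have h0 := pair_eq_neg_one hl (e.trans (add_comm _ _))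
  have h1 : r ≠ s := ne_of_pair (R := R) (r := s) (by omega)
  have h2 : r ≠ R.neg s := ne_neg_of_pair (by omega)
  have e' : R.α k = 1 • R.α s + R.α r := by rw [e, one_smul, add_comm]
  have hc := ChevTab.mem_terms_of_cr (T := T) one_pos e'
  have h3 := ChevTab.M_sq (T := T) h1 h2 one_pos e'
    (NoG2.α_ne_sub (fun r => (lg_of hl r).le_two) (by omega))
  refine ⟨-T.M s r 1, by rw [neg_mul_neg]; exact_mod_cast congrArg (Int.cast : ℤ → F) h3, fun t u => ?_⟩
  have h4 := hT.comm_eq h1 h2 (-u) (-t)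
  rw [ChevTab.commProd, List.prod_map_eq_pow_single (k, T.M s r 1, 1, 1) _ fun c h3 h4 =>
    (h3 (ChevTab.eq_of_mem_terms h1 h2 h4 hc (R.α_inj
      ((add_of_between hl h2 (T.between_of_mem_terms h4)).trans (e.trans (add_comm _ _)).symm)))).elim,
    @List.count_eq_one_of_mem _ instBEqOfDecidableEq _ _ _ (T.nodup_terms s r).of_map hc] at h4
  simp only [C.x_neg, inv_inv, _root_.neg_neg, pow_one] at h4
  rw [commutatorElement_def, h4]
  congr 1
  ring

theorem acts_iff {g : G} {w : Equiv.Perm Φ} {c : Φ → Fˣ} (h : C.Acts g w c) {A B : Set Φ}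
    (e : ∀ r, w r ∈ B ↔ r ∈ A) (a : G) : g * a * g⁻¹ ∈ C.XS B ↔ a ∈ C.XS A :=
  ⟨fun h1 => by simpa [mul_assoc] using h.inv_conj_mem (fun r => (e r).1) h1,
    h.conj_mem fun r => (e r).2⟩

theorem card_single (hF : C.Faithful) (r : Φ) : Nat.card (C.XS {r}) = Nat.card F :=
  (Nat.card_eq_of_bijective (fun t => (⟨C.x r t, C.x_mem (S := {r}) rfl t⟩ : C.XS {r}))
    ⟨fun _ _ e => hF.x_inj (congrArg Subtype.val e), fun a => by
      obtain ⟨t, ht⟩ := C.mem_XS_singleton.1 a.2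
      exact ⟨t, Subtype.ext ht.symm⟩⟩).symm

/-- The root subgroups of a simply laced Chevalley group. -/
def chevRG (hF : C.Faithful) (hT : T.StrongComm C.x) (hl : ∀ r s, R.ln r = R.ln s) (hR : R.NoA1) :
    RG R F G where
  X r := C.XS {r}
  x := C.x
  e _ := 1
  x_add β _ t u := (C.x_add β t u).symm
  mem_X β _ g := by simp [C.mem_XS_singleton, eq_comm]
  e_lg _ _ := rfl
  card_X r := by rw [card_single hF, pow_one]
  comm r s h a ha b hb H hH := by
    obtain ⟨t, rfl⟩ := C.mem_XS_singleton.1 ha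
    obtain ⟨u, rfl⟩ := C.mem_XS_singleton.1 hb
    have := C.comm_mem (T := {k | R.Between r s k}) (r := s) (s := r)
      (fun e => h (by rw [e, RootSys.neg_neg])) (fun k hk => hk.symm) (-u) (-t)
    simp only [C.x_neg, inv_inv] at this
    exact PreSys.XS_le.2 (fun k hk v => hH k hk (C.x_mem (S := {k}) rfl v)) this
  nd β r s _ e a ha h1 t := by
    obtain ⟨u, rfl⟩ := C.mem_XS_singleton.1 ha
    obtain ⟨N, h2, h3⟩ := comm_add hT hl e
    have h4 : u ≠ 0 := by rintro rfl; simp at h1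
    refine ⟨_, C.x_mem (S := {s}) rfl (N * u⁻¹ * t), (h3 _ _).trans (congrArg _ ?_)⟩
    field_simp
    linear_combination t * h2
  act i := ⟨_, fun r => acts_iff (C.acts_n_simple i) fun s => by simp⟩
  tor β _ c hc := by
    obtain ⟨γ, h⟩ | ⟨γ, h1, h2⟩ := hR.exists_pair β
    · refine ⟨_, fun r => acts_iff (C.acts_h γ (Units.mk0 c hc)) fun s => by simp, fun t => ?_⟩
      rw [C.h_conj, h, zpow_one, Units.val_mk0]
    · rw [pair_comm_of_ln (hl _ _)] at h1
      omega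

theorem chev_gen (hT : T.StrongComm C.x) (hl : ∀ r s, R.ln r = R.ln s)
    (r s k : Φ) (e : R.α k = R.α r + R.α s) : C.XS {k} ≤ ⁅C.XS {r}, C.XS {s}⁆ := fun a ha => by
  obtain ⟨t, rfl⟩ := C.mem_XS_singleton.1 ha
  obtain ⟨N, h2, h3⟩ := comm_add hT hl e
  have := Subgroup.commutator_mem_commutator (C.x_mem (S := {r}) rfl N) (C.x_mem (S := {s}) rfl t)
  rwa [h3, h2, one_mul] at this

theorem exists_x_ne_one (htop : C.grp = ⊤) {M : Type*} [Monoid M] {ρ : G →* M} (h : ∃ g, ρ g ≠ 1) :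
    ∃ r t, ρ (C.x r t) ≠ 1 := by
  by_contra! h1
  obtain ⟨g, hg⟩ := h
  exact hg ((PreSys.XS_le (K := ρ.ker)).2 (fun r _ t => h1 r t) (htop.ge (Subgroup.mem_top g)))

end Cfsg.Lib.MD
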