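import Cfsg.Agent.Lib.MD.Sys

/-!
The case where the eigenspaces of the long root subgroups are as small as possible.
-/

set_option autoImplicit false
set_option linter.unusedSectionVars false

namespace Cfsg.Lib.MD

open Module Cfsg.Lib.Sz Cfsg.Lib.RepDeg Cfsg.Lib.CharDeg Cfsg.Lib.Chev Cfsg.Lib.Chev.RootSys
open scoped commutatorElement

variable {ι Φ : Type} [Fintype ι] [DecidableEq ι] [Fintype Φ] {R : RootSys ι Φ}

variable (R) in
/-- The positive roots at an acute angle with a simple root. -/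
def AP (i : ι) : Finset Φ := Finset.univ.filter fun r => R.IsPos r ∧ R.pair (R.simple i) r = 1

theorem mem_AP {i : ι} {r : Φ} : r ∈ AP R i ↔ R.IsPos r ∧ R.pair (R.simple i) r = 1 := by simp [AP]

variable (R) in
/-- Roots orthogonal to a simple root that are positive or negatives of simple roots. -/
def Nn (i : ι) (r : Φ) : Prop :=
  R.pair (R.simple i) r = 0 ∧ (R.IsPos r ∨ ∃ k, r = R.neg (R.simple k))

theorem ht_add {k r s : Φ} (e : R.α k = R.α r + R.α s) : R.ht k = R.ht r + R.ht s := by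
  rw [ht, e, map_add]; rfl

theorem ht_between {r s k : Φ} (h : R.Between r s k) (hr : R.IsPos r) (hs : R.IsPos s) :
    R.ht r + R.ht s ≤ R.ht k := h.le (f := htL ι) hr.ht_pos.le hs.ht_pos.le

namespace RG

variable {F : Type*} [Field F] [Finite F] {G : Type*} [Group G] [Finite G] (S : RG R F G)
  {V : Type*} [AddCommGroup V] [Module ℂ V] [FiniteDimensional ℂ V] (ρ : G →* End ℂ V)
  (ψ : AddChar F ℂ)

/-- The space attached to a simple root. -/
noncomputable def L (i : ι) (l : F) : Submodule ℂ V := S.W ρ ψ (R.simple i) l ⊓ S.FS ρ (AP R i)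

/-- An eigenvector fixed by the higher root subgroups. -/
def Q (β : Φ) (l : F) : Prop := ∃ v ≠ 0, v ∈ S.W ρ ψ β l ∧ ∀ γ, R.IsPos γ → γ ≠ β →
  (∀ δ, R.IsPos δ → R.α β ≠ R.α γ + R.α δ) → S.X γ ≤ stab ρ v

variable {S ρ ψ} {β : Φ} {l : F} {v : V} {i j : ι} (hψ : ψ ≠ 1)

theorem mem_L : v ∈ S.L ρ ψ i l ↔ v ∈ S.W ρ ψ (R.simple i) l ∧
    ∀ r, R.IsPos r → R.pair (R.simple i) r = 1 → S.X r ≤ stab ρ v := by
  simp [L, mem_FS, mem_AP]

theorem Q.all (hβ : Lg R β) (hl : l ≠ 0) (h : S.Q ρ ψ β l) {l' : F} (hl' : l' ≠ 0) : S.Q ρ ψ β l' := by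
  obtain ⟨v, h0, h1, h2⟩ := h
  obtain ⟨g, hg, h3⟩ := exists_tor (S := S) (ρ := ρ) (ψ := ψ) hβ hl hl'
  exact ⟨_, rho_ne_zero g h0, h3 v h1, fun γ a b c => hg.fx (h2 γ a b c)⟩

theorem Q_simple : S.Q ρ ψ (R.simple i) l ↔ ∃ v ≠ 0, v ∈ S.W ρ ψ (R.simple i) l ∧
    ∀ γ, R.IsPos γ → γ ≠ R.simple i → S.X γ ≤ stab ρ v := by
  refine exists_congr fun v => and_congr_right fun _ => and_congr_right fun _ =>
    ⟨fun h γ h1 h2 => h γ h1 h2 fun δ hδ e => ?_, fun h γ h1 h2 _ => h γ h1 h2⟩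
  have := ht_add e
  have := h1.ht_pos
  have := hδ.ht_pos
  rw [ht_simple] at *
  omega

theorem line_of_Nn (hi : Lg R (R.simple i)) (hc : finrank ℂ (S.L ρ ψ i l) ≤ 1) (hv : v ∈ S.L ρ ψ i l)
    (h0 : v ≠ 0) {r : Φ} (hr : Nn R i r) : S.X r ≤ lineStabRep ρ v := fun a ha => by
  refine mem_line hc hv h0 ⟨inv_W' hi hv.1 hr.1.ge ha, inv_FS hv.2 (fun s hs => ?_) ha⟩
  obtain ⟨h1, h2⟩ := mem_AP.1 hs
  refine ⟨ne_neg_of_lvl (β := R.simple i) hr.1.ge (by omega), fun k hk => ?_⟩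
  obtain ⟨m, h3, h4⟩ : ∃ m, 0 < R.α s m ∧ 0 ≤ R.α r m := by
    obtain h | ⟨m, rfl⟩ := hr.2
    · obtain ⟨m, h3, -⟩ := h1.exists_pair_pos
      exact ⟨m, h3, h m⟩
    · have h3 := hr.1
      rw [pair_neg_right] at h3
      obtain ⟨n, h4, h5⟩ := R.exists_ne_of_ne_simple (i := m) (s := s) (by rintro rfl; omega)
        (isPos_simple m |>.ne_neg h1)
      exact ⟨n, (h1 n).lt_of_ne h5.symm, by simp [R.α_neg, R.α_simple, h4]⟩
  obtain ⟨a, b, ha, hb, e⟩ := hk.exists_int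
  have h5 := pair_of_comb e (R.simple i)
  have h6 : R.α k m = a * R.α s m + b * R.α r m := by simp [e]
  have h7 : a ≤ R.α k m := by nlinarith
  rw [h2, hr.1] at h5
  refine mem_AP.2 ⟨isPos_of_pos (i := m) (by omega), le_antisymm (hi.le_one ?_) (by omega)⟩
  rintro rfl
  rw [pair_self] at h5
  rw [R.α_simple, Pi.single_apply] at h7
  split_ifs at h7 <;> omega

include hψ

theorem D_eq_L (hi : Lg R (R.simple i)) (hl : l ≠ 0) : S.D ρ ψ (R.simple i) =
    Nat.card F ^ (∑ r ∈ AP R i, S.e r) * finrank ℂ (S.L ρ ψ i l) := by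
  have := heis_set (S := S) (ρ := ρ) (T := ∅) (A := AP R i) hψ hi hl (fun r h => (mem_AP.1 h).2)
    (fun r h s h' e => by
      have := ht_add e
      have := (mem_AP.1 h).1.ht_pos
      have := (mem_AP.1 h').1.ht_pos
      rw [ht_simple] at *
      omega) (by simp)
  rwa [FS_empty, inf_top_eq, finrank_W hi hl, Set.union_empty] at this

theorem exists_L (hi : Lg R (R.simple i)) (hl : l ≠ 0) (hD : 0 < S.D ρ ψ (R.simple i)) :
    ∃ v ∈ S.L ρ ψ i l, v ≠ 0 := by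
  rw [D_eq_L hψ hi hl] at hD
  obtain ⟨v, hv⟩ := finrank_pos_iff_exists_ne_zero.1 (Nat.pos_of_mul_pos_left hD)
  exact ⟨v, v.2, fun e => hv (Subtype.ext e)⟩

theorem Q_base (hi : Lg R (R.simple i)) (hc : finrank ℂ (S.L ρ ψ i 1) ≤ 1)
    (hD : 0 < S.D ρ ψ (R.simple i))
    (c1 : ∀ k, R.IsPos k → R.pair (R.simple i) k = 0 →
      ∃ r s, Nn R i r ∧ Nn R i s ∧ S.X k ≤ ⁅S.X r, S.X s⁆)
    (c2 : ∀ k, R.IsPos k → R.pair (R.simple i) k = -1 → ∃ r s, R.IsPos r ∧ Nn R i s ∧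
      R.pair (R.simple i) r = -1 ∧ R.ht k ≤ 2 * R.ht r ∧ S.X k ≤ ⁅S.X r, S.X s⁆) :
    S.Q ρ ψ (R.simple i) 1 := by
  obtain ⟨v, hv, h0⟩ := exists_L hψ hi one_ne_zero hD
  have f0 : ∀ k, R.IsPos k → k ≠ R.simple i → 0 ≤ R.pair (R.simple i) k → S.X k ≤ stab ρ v :=
    fun k h1 h2 h3 => by
      have := hi.le_one h2
      rcases h3.eq_or_lt with h4 | h4
      · obtain ⟨r, s, hr, hs, e⟩ := c1 k h1 h4.symm
        exact e.trans (comm_le_stab (line_of_Nn hi hc hv h0 hr) (line_of_Nn hi hc hv h0 hs))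
      · exact (mem_L.1 hv).2 k h1 (by omega)
  obtain ⟨M, hM⟩ := R.exists_ht_bound
  have f1 : ∀ n : ℕ, ∀ k, M - R.ht k ≤ n → R.IsPos k → R.pair (R.simple i) k = -1 →
      S.X k ≤ stab ρ v := fun n => by
    induction n with
    | zero => exact fun k h => absurd (hM k) (by omega)
    | succ n ih =>
      intro k h1 h2 h3
      obtain ⟨r, s, hr, hs, h4, h5, e⟩ := c2 k h2 h3
      have key : ∀ s, R.IsPos s → 0 < R.pair (R.simple i) s → ∀ m, R.Between s r m →
          S.X m ≤ stab ρ v := fun s h6 h7 m hm => by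
        have h8 := hm.isPos h6 hr
        have h9 := ht_between hm h6 hr
        have := h6.ht_pos
        have := hr.ht_pos
        by_cases h10 : 0 ≤ R.pair (R.simple i) m
        · exact f0 m h8 (by rintro rfl; rw [ht_simple] at h9; omega) h10
        have h11 := hi.ge_neg_one ((isPos_simple i).ne_neg h8)
        obtain ⟨a, b, ha, hb, e⟩ := hm.exists_int
        have h12 := pair_of_comb e (R.simple i)
        have h13 : R.ht m = a * R.ht s + b * R.ht r := by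
          rw [ht, e, map_add, map_zsmul, map_zsmul]; rfl
        rw [h4] at h12
        have h14 : 2 ≤ b := by nlinarith
        have h15 := mul_le_mul_of_nonneg_right h14 hr.ht_pos.le
        have h16 := mul_pos ha h6.ht_pos
        exact ih m (by omega) h8 (by omega)
      refine e.trans (comm_le_stab (fun a ha => mem_line hc hv h0 (mem_L.2 ⟨inv_W hi hv.1
        ((isPos_simple i).ne_neg hr) (key _ (isPos_simple i) (by simp)) ha, fun s h6 h7 =>
          inv_Fx ((mem_L.1 hv).2 s h6 h7) (h6.ne_neg hr) (key s h6 (by omega)) ha⟩))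
        (line_of_Nn hi hc hv h0 hs))
  refine Q_simple.2 ⟨v, h0, hv.1, fun γ h1 h2 => ?_⟩
  by_cases h3 : 0 ≤ R.pair (R.simple i) γ
  · exact f0 γ h1 h2 h3
  · have := hi.ge_neg_one ((isPos_simple i).ne_neg h1)
    exact f1 _ γ (Int.self_le_toNat _) h1 (by omega)

omit hψ in
theorem sref_sref_simple (hi : Lg R (R.simple i)) (hj : Lg R (R.simple j))
    (h : R.pair (R.simple j) (R.simple i) = -1) :
    R.sref i (R.sref j (R.simple i)) = R.simple j := R.α_inj (by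
  have h1 : R.α (R.sref j (R.simple i)) = R.α (R.simple i) + R.α (R.simple j) := by
    rw [α_sref', h]; simp
  rw [α_sref', RootSys.pair_of_add h1, pair_self, pair_comm_of_ln (le_antisymm (hj _) (hi _)), h, h1]
  simp)

theorem Q_next (hi : Lg R (R.simple i)) (hj : Lg R (R.simple j))
    (h : R.pair (R.simple j) (R.simple i) = -1) (ci : ∀ l ≠ 0, finrank ℂ (S.L ρ ψ i l) ≤ 1)
    (cj : ∀ l ≠ 0, finrank ℂ (S.L ρ ψ j l) ≤ 1) (hQ : S.Q ρ ψ (R.simple i) 1) :
    S.Q ρ ψ (R.simple j) 1 := by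
  classical
  obtain ⟨v, h0, h1, h2⟩ := Q_simple.1 hQ
  obtain ⟨g, hg⟩ := S.act j
  obtain ⟨g', hg'⟩ := S.act i
  obtain ⟨l, hl, h3⟩ := Act.W (ρ := ρ) hψ hg hi (hi.sref j) one_ne_zero
  obtain ⟨l', hl', h4⟩ := Act.W (ρ := ρ) hψ hg' (hi.sref j) ((hi.sref j).sref i) hl
  have h5 := h4 _ (h3 v h1)
  have e0 := sref_sref_simple hi hj h
  rw [e0] at h5
  set c := R.sref j (R.simple i) with hc
  have e1 : R.α c = R.α (R.simple i) + R.α (R.simple j) := by rw [hc, α_sref', h]; simp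
  have e2 : R.ht c = 2 := by rw [ht_add e1, ht_simple, ht_simple]; rfl
  have e3 : R.IsPos c := isPos_iff_ht.2 (by omega)
  have e4 : R.α (R.simple j) = R.α c + R.α (R.neg (R.simple i)) := by rw [e1, R.α_neg]; abel
  have e5 := hj.pair_of_add e4
  have e6 := hj.pair_of_add (e4.trans (add_comm _ _))
  set u := ρ g' (ρ g v) with hu
  have u0 : u ≠ 0 := rho_ne_zero _ (rho_ne_zero _ h0)
  have fx : ∀ γ, R.IsPos (R.sref j (R.sref i γ)) → γ ≠ R.simple j → S.X γ ≤ stab ρ u := fun γ a b => by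
    simpa using Act.fx hg' (Act.fx hg (h2 _ a fun e => b (by rw [← e0, hc, ← e]; simp)))
  have fx' : ∀ γ, R.IsPos γ → γ ≠ R.simple i → γ ≠ R.simple j → γ ≠ c → S.X γ ≤ stab ρ u :=
    fun γ a b d e => fx γ ((a.sref b).sref fun e' => e (by rw [← R.sref_sref i γ, e', ← e0]; simp)) d
  have := Fintype.ofFinite (S.X c)
  have k1 : ∀ a ∈ S.X c, ρ a u ∈ S.W ρ ψ (R.simple j) l' := fun a ha => inv_W' hj h5 (by omega) ha
  have w0 : ∑ a : S.X c, ρ a u ≠ 0 := by
    refine swap_ne_zero (B := S.X (R.neg (R.simple i))) u0 (fx _ (by rw [sref_neg_simple]; exact e3)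
      ((isPos_simple i).ne_neg (isPos_simple j)).symm) (fun a ha b hb => ?_) fun a ha a1 => ?_
    · obtain ⟨t, ht⟩ := (S.mem_X _ hj _).1 (S.comm _ _ (ne_neg_of_lvl (β := R.simple j) (by omega)
        (by omega)) b hb a ha _ fun k hk => (hj.of_between e6 e5 hk).1 ▸ le_rfl)
      exact ⟨_, ht ▸ mem_W.1 (k1 a ha) t⟩
    · obtain ⟨t, ht⟩ := exists_psi hψ hl'
      obtain ⟨b, hb, e⟩ := S.nd _ _ _ hj e4 a ha a1 t
      refine ⟨b, hb, fun e' => ht (smul_left_injective ℂ (rho_ne_zero (ρ := ρ) a u0) ?_)⟩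
      have := mem_stab.1 (inv_mem (mem_stab.2 e'))
      rw [commutatorElement_inv, e] at this
      simpa using (k1 a ha t).symm.trans this
  set w := ∑ a : S.X c, ρ a u
  have w1 : w ∈ S.W ρ ψ (R.simple j) l' := Submodule.sum_mem _ fun a _ => k1 a a.2
  have w2 : ∀ γ, R.IsPos γ → γ ≠ R.simple i → γ ≠ R.simple j → S.X γ ≤ stab ρ w := fun γ a b d => by
    by_cases e : γ = c
    · rw [e]; exact sum_mem_Fx _ u
    refine Submodule.sum_mem (Fx ρ (S.X γ)) fun y _ => inv_Fx (fx' γ a b d e) (a.ne_neg e3)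
      (fun k hk => ?_) y.2
    have := ht_between hk a e3
    have := a.ht_pos
    exact fx' k (hk.isPos a e3) (by rintro rfl; rw [ht_simple] at *; omega)
      (by rintro rfl; rw [ht_simple] at *; omega) (by rintro rfl; omega)
  have w3 : ∀ s, R.IsPos s → ∀ k, R.Between s (R.simple i) k → S.X k ≤ stab ρ w := fun s a k hk => by
    have := ht_between hk a (isPos_simple i)
    have := a.ht_pos
    exact w2 k (hk.isPos a (isPos_simple i)) (by rintro rfl; rw [ht_simple] at *; omega)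
      (by rintro rfl; rw [ht_simple, ht_simple] at *; omega)
  have w4 : w ∈ S.L ρ ψ j l' := mem_L.2 ⟨w1, fun r a b => w2 r a (by rintro rfl; omega)
    (by rintro rfl; simp at b)⟩
  obtain ⟨m, hm⟩ := exists_W hψ hi w0 fun a ha => mem_line (cj l' hl') w4 w0 (mem_L.2
    ⟨inv_W hj w1 ((isPos_simple j).ne_neg (isPos_simple i)) (w3 _ (isPos_simple j)) ha,
      fun s b d => inv_Fx ((mem_L.1 w4).2 s b d) (b.ne_neg (isPos_simple i)) (w3 s b) ha⟩)
  by_cases hm0 : m = 0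
  · rw [hm0, mem_W_zero hi] at hm
    refine Q.all hj hl' (Q_simple.2 ⟨w, w0, w1, fun γ a b => ?_⟩) one_ne_zero
    by_cases e : γ = R.simple i
    exacts [e ▸ hm, w2 γ a e b]
  have h' := (pair_comm_of_ln (le_antisymm (hj _) (hi _))).trans h
  obtain ⟨y, y0, y1, y2⟩ := Q_simple.1 (hQ.all hi one_ne_zero hm0)
  obtain ⟨z, hz⟩ := exists_smul_of_le_one (ci m hm0) (mem_L.2 ⟨y1, fun r a b =>
    y2 r a (by rintro rfl; simp at b)⟩) y0 (mem_L.2 ⟨hm, fun r a b => w2 r a (by rintro rfl; simp at b)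
      (by rintro rfl; omega)⟩)
  refine (not_le_stab hψ hj hl' w1 w0 fun a ha => hz ▸ stab_smul (y2 _ (isPos_simple j) ?_ ha) z).elim
  intro e
  rw [e] at h
  simp at h

theorem Q_sref (hβ : Lg R β) (h1 : R.IsPos β) (h2 : R.pair (R.simple i) β < 0) (hQ : S.Q ρ ψ β 1) :
    S.Q ρ ψ (R.sref i β) 1 := by
  obtain ⟨v, h0, h3, h4⟩ := hQ
  obtain ⟨g, hg⟩ := S.act i
  obtain ⟨l, hl, h5⟩ := Act.W (ρ := ρ) hψ hg hβ (hβ.sref i) one_ne_zero
  refine Q.all (hβ.sref i) hl ⟨_, rho_ne_zero g h0, h5 v h3, fun γ a b c => ?_⟩ one_ne_zero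
  have h6 := R.ht_sref i β
  have h7 := h1.ht_pos
  have h8 : γ ≠ R.simple i := by
    rintro rfl
    have h9 : 0 < R.pair (R.sref i β) (R.simple i) := by
      rw [pair_pos_comm, ← refl_simple, pair_refl_right]; omega
    have h10 := (hβ.sref i).le_one b
    obtain ⟨δ, e⟩ := (hβ.sref i).exists_pt (r := R.simple i) (by omega)
    have := ht_add e
    rw [ht_simple] at this
    exact c δ (isPos_iff_ht.2 (by omega)) e
  have := Act.fx hg (h4 (R.sref i γ) (a.sref h8) (fun e => b (by rw [← e]; simp)) fun δ hδ e => ?_)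
  · simpa using this
  by_cases h9 : δ = R.simple i
  · have := hβ.pair_of_add (e.trans (add_comm _ _))
    have := (R.pair_neg_comm).1 h2
    rw [h9] at *
    omega
  · refine c _ (hδ.sref h9) ?_
    have := ((R.isAut_sref i).comb (k := β) (r := R.sref i γ) (s := δ) (i := 1) (j := 1)).2
      (by simpa using e)
    simpa using this

theorem count (hQ : ∀ β, R.IsPos β → Lg R β → S.Q ρ ψ β 1) (A : Φ → Finset Φ) (T : Finset Φ)
    (hA : ∀ β ∈ T, Lg R β ∧ R.IsPos β ∧ ∀ r ∈ A β, (R.IsPos r ∧ R.pair β r = 1 ∧ R.ht r < R.ht β) ∧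
      ∀ s ∈ A β, R.α β ≠ R.α r + R.α s) :
    (Nat.card F - 1) * ∑ β ∈ T, Nat.card F ^ (∑ r ∈ A β, S.e r) ≤ finrank ℂ V := by
  classical
  have key : ∀ U : Finset Φ, (∀ r ∈ U, R.IsPos r ∧ ∀ k, R.ht r < R.ht k → k ∈ U) →
      (Nat.card F - 1) * ∑ β ∈ U ∩ T, Nat.card F ^ (∑ r ∈ A β, S.e r) + finrank ℂ (S.FS ρ U) ≤
        finrank ℂ V := fun U => by
    induction U using Finset.induction_on_min_value R.ht with
    | empty => simpa using Submodule.finrank_le _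
    | insert a U ha hm ih =>
      intro hU
      have hU' : ∀ r ∈ U, R.IsPos r ∧ ∀ k, R.ht r < R.ht k → k ∈ U := fun r hr => by
        obtain ⟨h1, h2⟩ := hU r (Finset.mem_insert_of_mem hr)
        refine ⟨h1, fun k hk => (Finset.mem_insert.1 (h2 k hk)).resolve_left ?_⟩
        rintro rfl
        exact absurd (hm r hr) (by omega)
      refine le_trans ?_ (ih hU')
      rw [Finset.coe_insert]
      by_cases hT : a ∈ T
      swap
      · rw [Finset.insert_inter_of_notMem hT, FS_insert]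
        exact Nat.add_le_add_left (Submodule.finrank_mono inf_le_left) _
      obtain ⟨h1, h2, h3⟩ := hA a hT
      rw [Finset.insert_inter_of_mem hT, Finset.sum_insert (by simp [ha]), mul_add, add_comm (_ * _),
        add_assoc]
      refine Nat.add_le_add_left (filt_step hψ h1 fun l hl => ?_) _
      obtain ⟨v, h0, h4, h5⟩ := (hQ a h2 h1).all h1 one_ne_zero hl
      have h6 : 0 < finrank ℂ ↥(S.W ρ ψ a l ⊓ S.FS ρ U) := finrank_pos_iff_exists_ne_zero.2
        ⟨⟨v, h4, mem_FS.2 fun r hr => h5 r (hU' r hr).1 (by rintro rfl; exact ha hr) fun δ hδ e => by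
          have := ht_add e
          have := hδ.ht_pos
          have := hm r hr
          omega⟩, fun e => h0 (congrArg Subtype.val e)⟩
      suffices h7 : finrank ℂ ↥(S.W ρ ψ a l ⊓ S.FS ρ U) = Nat.card F ^ (∑ r ∈ A a, S.e r) *
          finrank ℂ ↥(S.W ρ ψ a l ⊓ S.FS ρ (A a ∪ U)) by
        rw [h7] at h6 ⊢
        exact Nat.le_mul_of_pos_right _ (Nat.pos_of_mul_pos_left h6)
      refine heis_set hψ h1 hl (fun r hr => (h3 r hr).1.2.1) (fun r hr => (h3 r hr).2)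
        fun r hr s hs k hk => ?_
      have h7 : R.IsPos s := by
        rcases hs with rfl | hs
        · exact (h3 s hr).1.1
        · have := ht_add hs
          have := (h3 r hr).1.2.2
          exact isPos_iff_ht.2 (by omega)
      refine ⟨(hU' k hk).1.ne_neg h7, fun m hm => (hU' k hk).2 m ?_⟩
      have := ht_between hm (hU' k hk).1 h7
      have := h7.ht_pos
      omega
  have := key (Finset.univ.filter R.IsPos) fun r hr => by
    have := (Finset.mem_filter.1 hr).2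
    exact ⟨this, fun k hk => by simpa using isPos_iff_ht.2 (this.ht_pos.trans hk)⟩
  rw [Finset.inter_eq_right.2 fun β hβ => by simpa using (hA β hβ).2.1] at this
  omega

end RG

variable (R) in
/-- The combinatorial input. -/
structure Comb (e : Φ → ℕ) (i : ι) (m : ℕ) (par : ι → ι) (rk : ι → ℕ) (c : Φ → Φ × Φ) : Prop where
  lg : Lg R (R.simple i)
  two : ∃ r, Lg R r ∧ R.pair (R.simple i) r = 1
  sum : ∀ j, Lg R (R.simple j) → ∑ r ∈ AP R j, e r = m
  par : ∀ j, Lg R (R.simple j) → j = i ∨ Lg R (R.simple (par j)) ∧ rk (par j) < rk j ∧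
    R.pair (R.simple j) (R.simple (par j)) = -1
  c1 : ∀ k, R.IsPos k → R.pair (R.simple i) k = 0 → Nn R i (c k).1 ∧ Nn R i (c k).2 ∧
    R.α k = R.α (c k).1 + R.α (c k).2 ∧ R.ln (c k).1 = R.ln (c k).2
  c2 : ∀ k, R.IsPos k → R.pair (R.simple i) k = -1 → R.IsPos (c k).1 ∧ Nn R i (c k).2 ∧
    R.ht k ≤ 2 * R.ht (c k).1 ∧ R.α k = R.α (c k).1 + R.α (c k).2 ∧ R.ln (c k).1 = R.ln (c k).2

namespace RG

variable {F : Type*} [Field F] [Finite F] {G : Type*} [Group G] [Finite G] {S : RG R F G}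
  {V : Type*} [AddCommGroup V] [Module ℂ V] [FiniteDimensional ℂ V] {ρ : G →* End ℂ V}
  {ψ : AddChar F ℂ} (hψ : ψ ≠ 1) {i : ι} {m : ℕ} {par : ι → ι} {rk : ι → ℕ} {c : Φ → Φ × Φ}
  (h : Comb R S.e i m par rk c)
include h

theorem ind_simple {p : ι → Prop} (h0 : p i) (h1 : ∀ j k, Lg R (R.simple j) → Lg R (R.simple k) →
    R.pair (R.simple k) (R.simple j) = -1 → p j → p k) (j : ι) (hj : Lg R (R.simple j)) : p j := by
  induction hn : rk j using Nat.strong_induction_on generalizing j with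
  | _ n ih =>
    obtain rfl | ⟨h2, h3, h4⟩ := h.par j hj
    exacts [h0, h1 _ _ h2 hj h4 (ih _ (hn ▸ h3) _ h2 rfl)]

include hψ

theorem D_const {β : Φ} (hβ : Lg R β) : S.D ρ ψ β = S.D ρ ψ (R.simple i) := by
  revert hβ
  refine induction_root (R := R) (p := fun β => Lg R β → S.D ρ ψ β = S.D ρ ψ (R.simple i))
    (ind_simple h rfl fun j k hj hk e h1 => ?_) (fun j r ih hr => ?_) β
  · rw [← sref_sref_simple hj hk e, D_sref hψ (hj.sref k), D_sref hψ hj, h1]
  · have := hr.of_ln (R.ln_sref j r).symm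
    rw [D_sref hψ this, ih this]

/-- The dichotomy. -/
theorem main (hgen : ∀ r s k, R.α k = R.α r + R.α s → R.ln r = R.ln s → S.X k ≤ ⁅S.X r, S.X s⁆)
    {β : Φ} (hβ : Lg R β) {t : F} (ht : ρ (S.x β t) ≠ 1) (A : Φ → Finset Φ) (T : Finset Φ)
    (hA : ∀ β ∈ T, Lg R β ∧ R.IsPos β ∧ ∀ r ∈ A β, (R.IsPos r ∧ R.pair β r = 1 ∧ R.ht r < R.ht β) ∧
      ∀ s ∈ A β, R.α β ≠ R.α r + R.α s) :
    (∃ d, 2 * Nat.card F ^ m ≤ Nat.card F * d ∧
      (Nat.card F - 1) * (Nat.card F + 1) * d ≤ finrank ℂ V) ∨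
    S.D ρ ψ β = Nat.card F ^ m ∧
      (Nat.card F - 1) * ∑ β ∈ T, Nat.card F ^ (∑ r ∈ A β, S.e r) ≤ finrank ℂ V := by
  have h0 := D_pos hψ hβ ht
  rw [D_const hψ h hβ] at h0 ⊢
  by_cases h1 : 2 * Nat.card F ^ m ≤ S.D ρ ψ (R.simple i)
  · obtain ⟨r, h2, h3⟩ := h.two
    obtain ⟨d, h4, h5⟩ := two_step hψ h.lg h2 h3 (D_const (ρ := ρ) hψ h h2)
    exact .inl ⟨d, h4 ▸ h1, h5⟩
  have h2 : ∀ j, Lg R (R.simple j) → ∀ l ≠ 0, finrank ℂ (S.L ρ ψ j l) ≤ 1 := fun j hj l hl => by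
    rw [← D_const hψ h hj, D_eq_L hψ hj hl, h.sum j hj] at h1
    by_contra h2
    exact h1 (by rw [mul_comm]; exact Nat.mul_le_mul_left _ (by omega))
  refine .inr ⟨?_, count (ρ := ρ) hψ (fun β h3 => ?_) A T hA⟩
  · have h3 := h2 i h.lg 1 one_ne_zero
    rw [D_eq_L hψ h.lg one_ne_zero, h.sum i h.lg] at h0 ⊢
    rw [le_antisymm h3 (Nat.pos_of_mul_pos_left h0), mul_one]
  refine induction_pos (R := R) (p := fun β => Lg R β → S.Q ρ ψ β 1) (ind_simple h
    (Q_base hψ h.lg (h2 i h.lg 1 one_ne_zero) h0 (fun k a b => ?_) fun k a b => ?_)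
    fun j k hj hk e => Q_next hψ hj hk e (h2 j hj) (h2 k hk)) (fun j r a b ih hr => ?_) h3
  · obtain ⟨h4, h5, h6, h7⟩ := h.c1 k a b
    exact ⟨_, _, h4, h5, hgen _ _ _ h6 h7⟩
  · obtain ⟨h4, h5, h6, h7, h8⟩ := h.c2 k a b
    refine ⟨_, _, h4, h5, ?_, h6, hgen _ _ _ h7 h8⟩
    have := RootSys.pair_of_add h7 (R.simple i)
    have := h5.1
    omega
  · have := hr.of_ln (R.ln_sref j r).symm
    exact Q_sref hψ this a b (ih this)

end RG

end Cfsg.Lib.MD
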