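import Cfsg.Agent.Lib.MD.Chev

/-!
Certificates for the root system of type E6.
-/

set_option autoImplicit false
set_option maxRecDepth 100000

namespace Cfsg.Lib.MD

open Cfsg.Lie Cfsg.Lib.Chev Cfsg.Lib.Chev.RootSys

/-- The root system. -/
noncomputable def mE6 : RootSys (Fin 6) (Fin 72) := checkedE6.R

/-- Decompositions used for one simple root. -/
def cE6 : List (Fin 72 × Fin 72) := [
  (0, 0), (0, 0), (0, 0), (0, 0), (0, 0), (0, 0), (0, 0), (0, 0), (0, 0), (0, 0), (0, 0), (0, 0), (0, 0),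
  (0, 0), (0, 0), (0, 0), (0, 0), (0, 0), (0, 0), (0, 0), (0, 0), (0, 0), (0, 0), (0, 0), (0, 0), (0, 0),
  (0, 0), (0, 0), (0, 0), (0, 0), (0, 0), (0, 0), (0, 0), (0, 0), (0, 0), (0, 0), (38, 34), (40, 32),
  (41, 32), (47, 25), (48, 25), (49, 25), (43, 32), (50, 25), (51, 25), (52, 25), (47, 32), (48, 34),
  (49, 35), (48, 36), (51, 34), (53, 32), (54, 32), (54, 35), (55, 34), (54, 37), (0, 0), (0, 0), (0, 0),
  (0, 0), (0, 0), (0, 0), (0, 0), (0, 0), (0, 0), (0, 0), (0, 0), (68, 35), (69, 34), (70, 32), (71, 25),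
  (70, 46)]

/-- Decompositions of the long positive roots. -/
def pE6 : List (List (Fin 72 × Fin 72)) := [
  [], [], [], [], [], [], [], [], [], [], [], [], [], [], [], [], [], [], [], [], [], [], [], [], [], [], [],
  [], [], [], [], [], [], [], [], [], [], [], [(36, 37)], [], [(37, 39)], [(36, 40), (38, 39)], [],
  [(39, 42)], [(37, 43), (40, 42)], [(36, 44), (38, 43), (41, 42)], [], [(39, 46)], [(37, 47), (40, 46)],
  [(36, 48), (38, 47), (41, 46)], [(42, 47), (43, 46)], [(37, 50), (42, 48), (44, 46)],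
  [(36, 51), (38, 50), (42, 49), (45, 46)], [(39, 51), (40, 50), (43, 48), (44, 47)],
  [(36, 53), (39, 52), (41, 50), (43, 49), (45, 47)],
  [(37, 54), (38, 53), (40, 52), (41, 51), (44, 49), (45, 48)], [], [(42, 56)], [(39, 57), (43, 56)],
  [(37, 58), (40, 57), (44, 56)], [(36, 59), (38, 58), (41, 57), (45, 56)], [(46, 58), (47, 57), (50, 56)],
  [(37, 61), (46, 59), (48, 57), (51, 56)], [(36, 62), (38, 61), (46, 60), (49, 57), (52, 56)],
  [(39, 62), (40, 61), (47, 59), (48, 58), (53, 56)],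
  [(36, 64), (39, 63), (41, 61), (47, 60), (49, 58), (54, 56)],
  [(37, 65), (38, 64), (40, 63), (41, 62), (48, 60), (49, 59), (55, 56)],
  [(42, 64), (43, 62), (44, 61), (50, 59), (51, 58), (53, 57)],
  [(36, 67), (42, 65), (43, 63), (45, 61), (50, 60), (52, 58), (54, 57)],
  [(37, 68), (38, 67), (42, 66), (44, 63), (45, 62), (51, 60), (52, 59), (55, 57)],
  [(39, 69), (40, 68), (41, 67), (43, 66), (44, 65), (45, 64), (53, 60), (54, 59), (55, 58)],
  [(46, 70), (47, 69), (48, 68), (49, 67), (50, 66), (51, 65), (52, 64), (53, 63), (54, 62), (55, 61)]]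

/-- The long positive roots. -/
def tE6 : List (Fin 72) := [
  36, 37, 38, 39, 40, 41, 42, 43, 44, 45, 46, 47, 48, 49, 50, 51, 52, 53, 54, 55, 56, 57, 58, 59, 60, 61, 62,
  63, 64, 65, 66, 67, 68, 69, 70, 71]

/-- The exponents. -/
def dE6 : List ℕ := [
  0, 0, 1, 0, 1, 2, 0, 1, 2, 3, 0, 1, 2, 3, 2, 3, 4, 4, 5, 6, 0, 1, 2, 3, 4, 3, 4, 5, 5, 6, 7, 6, 7, 8, 9,
  10]

theorem decE6 : Dec mE6 Fin.val (fun r => lget [] r pE6) tE6 := by decide +kernel

theorem sumE6 : tE6.map (fun β => ((lget [] β.1 pE6).map fun p => (fun _ : Fin 72 => 1) p.1).sum) = dE6 := by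
  decide +kernel

theorem combE6 : Comb mE6 (fun _ : Fin 72 => 1) 0 10 ![0, 3, 0, 2, 3, 4] ![0, 3, 1, 2, 3, 4] fun r => lget (0, 0) r cE6 where
  lg := by decide +kernel
  two := ⟨16, by decide +kernel⟩
  sum := by decide +kernel
  par := by decide +kernel
  c1 := by decide +kernel
  c2 := by decide +kernel

end Cfsg.Lib.MD
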