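import Cfsg.Agent.Lib.MD.Chev

/-!
Certificates for the root system of type F4.
-/

set_option autoImplicit false
set_option maxRecDepth 100000

namespace Cfsg.Lib.MD

open Cfsg.Lie Cfsg.Lib.Chev Cfsg.Lib.Chev.RootSys

/-- The root system. -/
noncomputable def mF4 : RootSys (Fin 4) (Fin 48) := checkedF4.R

/-- The exponents of the root subgroups. -/
noncomputable def eF4 (r : Fin 48) : ℕ := if mF4.ln r = 2 then 1 else 2

/-- Decompositions used for one simple root. -/
def cF4 : List (Fin 48 × Fin 48) := [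
  (0, 0), (0, 0), (0, 0), (0, 0), (0, 0), (0, 0), (0, 0), (0, 0), (0, 0), (0, 0), (0, 0), (0, 0), (0, 0),
  (0, 0), (0, 0), (0, 0), (0, 0), (0, 0), (0, 0), (0, 0), (0, 0), (0, 0), (0, 0), (0, 0), (0, 0), (28, 20),
  (0, 0), (34, 14), (35, 14), (0, 0), (37, 14), (0, 0), (39, 14), (34, 20), (33, 27), (37, 20), (0, 0),
  (35, 27), (0, 0), (40, 20), (44, 14), (37, 33), (0, 0), (44, 20), (40, 33), (44, 27), (41, 32), (0, 0)]

/-- Decompositions of the long positive roots. -/
def pF4 : List (List (Fin 48 × Fin 48)) := [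
  [], [], [], [], [], [], [], [], [], [], [], [], [], [], [], [], [], [], [], [], [], [], [], [], [], [],
  [(24, 25)], [], [], [], [(27, 28)], [(24, 30), (27, 29)], [(25, 31), (26, 30), (28, 29)], [], [], [], [],
  [], [], [], [], [(33, 37), (34, 35)], [(24, 41), (33, 38), (34, 36)],
  [(25, 42), (26, 41), (33, 39), (35, 36)], [], [(27, 44), (30, 42), (31, 41), (34, 40), (37, 38)],
  [(25, 45), (28, 44), (30, 43), (32, 41), (35, 40), (37, 39)],
  [(24, 46), (26, 45), (29, 44), (31, 43), (32, 42), (36, 40), (38, 39)]]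

/-- The long positive roots. -/
def tF4 : List (Fin 48) := [
  24, 25, 26, 30, 31, 32, 41, 42, 43, 45, 46, 47]

/-- The exponents. -/
def dF4 : List ℕ := [
  0, 0, 1, 2, 3, 4, 4, 5, 6, 8, 9, 10]

theorem decF4 : Dec mF4 Fin.val (fun r => lget [] r pF4) tF4 := by decide +kernel

theorem sumF4 : tF4.map (fun β => ((lget [] β.1 pF4).map fun p => eF4 p.1).sum) = dF4 := by
  decide +kernel

theorem combF4 : Comb mF4 eF4 3 10 ![0, 0, 3, 3] ![0, 0, 1, 0] fun r => lget (0, 0) r cF4 where
  lg := by decide +kernel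
  two := ⟨1, by decide +kernel⟩
  sum := by decide +kernel
  par := by decide +kernel
  c1 := by decide +kernel
  c2 := by decide +kernel

end Cfsg.Lib.MD
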