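import Cfsg.Agent.Lib.MD.Chev

/-!
Representations of groups with root subgroups of type G2.
-/

set_option autoImplicit false
set_option linter.unusedSectionVars false
set_option maxRecDepth 100000

namespace Cfsg.Lib.MD

open Module Cfsg.Lie Cfsg.Lib.Sz Cfsg.Lib.RepDeg Cfsg.Lib.CharDeg Cfsg.Lib.Chev Cfsg.Lib.Chev.RootSys
open scoped commutatorElement

/-- The root system. -/
noncomputable def mG2 : RootSys (Fin 2) (Fin 12) := checkedG2.R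

/-- The roots between two positive roots. -/
def BtG (r s : Fin 12) (T : List (Fin 12)) : Prop := mG2.IsPos r ∧ mG2.IsPos s ∧
  ∀ k, ∀ i j : Fin 5, mG2.α k = (i.1 : ℤ) • mG2.α r + (j.1 : ℤ) • mG2.α s → i = 0 ∨ j = 0 ∨ k ∈ T

noncomputable instance decBtG (r s : Fin 12) (T : List (Fin 12)) : Decidable (BtG r s T) :=
  inferInstanceAs (Decidable (_ ∧ _ ∧ _))

theorem btG {r s : Fin 12} (T : List (Fin 12)) (h : BtG r s T := by decide +kernel) :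
    s ≠ mG2.neg r ∧ ∀ k, mG2.Between r s k → k ∈ T := by
  refine ⟨h.1.ne_neg h.2.1, fun k ⟨i, j, hi, hj, e⟩ => ?_⟩
  have h1 : mG2.ht k = i * mG2.ht r + j * mG2.ht s := by
    rw [ht, e, map_add, map_nsmul, map_nsmul, nsmul_eq_mul, nsmul_eq_mul]; rfl
  have h2 : mG2.ht k ≤ 5 := (by decide +kernel : ∀ k, mG2.ht k ≤ 5) k
  have h3 := h.1.ht_pos
  have h4 := h.2.1.ht_pos
  obtain h5 | h5 | h5 := h.2.2 k ⟨i, by nlinarith⟩ ⟨j, by nlinarith⟩ (by simpa using e)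
  exacts [absurd (congrArg Fin.val h5) hi.ne', absurd (congrArg Fin.val h5) hj.ne', h5]

theorem fpf_le_stab {G : Type*} [Group G] {V : Type*} [AddCommGroup V] [Module ℂ V] {ρ : G →* End ℂ V}
    {A : Subgroup G} [Finite A] {g : G} {v : V} (hA : ∀ a ∈ A, g * a * g⁻¹ ∈ A)
    (hf : ∀ a ∈ A, g * a * g⁻¹ = a → a = 1) (h1 : g ∈ lineStabRep ρ v) (h2 : A ≤ lineStabRep ρ v) :
    A ≤ stab ρ v := fun a ha => by
  let f : A → A := fun x => ⟨g * x * g⁻¹ * x⁻¹, A.mul_mem (hA _ x.2) (A.inv_mem x.2)⟩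
  have hinj : Function.Injective f := fun x y e => by
    have e' : g * x * g⁻¹ * (x : G)⁻¹ = g * y * g⁻¹ * (y : G)⁻¹ := congrArg Subtype.val e
    have := hf _ (A.mul_mem (A.inv_mem y.2) x.2) (by
      rw [show g * ((y : G)⁻¹ * x) * g⁻¹ = (g * y * g⁻¹)⁻¹ * (g * x * g⁻¹ * (x : G)⁻¹) * x by group, e']
      group)
    exact Subtype.ext (inv_mul_eq_one.1 this).symm
  obtain ⟨x, hx⟩ := Finite.surjective_of_injective hinj ⟨a, ha⟩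
  rw [← show _ = a from congrArg Subtype.val hx]
  exact commutator_apply_of_mem h1 (h2 x.2)

namespace RG

variable {F : Type*} [Field F] [Finite F] {G : Type*} [Group G] [Finite G] {S : RG mG2 F G}
  {V : Type*} [AddCommGroup V] [Module ℂ V] [FiniteDimensional ℂ V] {ρ : G →* End ℂ V}
  {ψ : AddChar F ℂ} (hψ : ψ ≠ 1) {m : ℕ} (e8 : S.e 8 = m) (e9 : S.e 9 = m)

theorem lgG : Lg mG2 6 ∧ Lg mG2 10 ∧ Lg mG2 11 := by decide +kernel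

theorem srG : mG2.sref 1 11 = 10 ∧ mG2.sref 0 10 = 6 ∧ mG2.sref 0 6 = 10 ∧ mG2.sref 0 11 = 11 ∧
    mG2.sref 0 (mG2.sref 1 7) = 9 ∧ mG2.sref 0 (mG2.sref 1 9) = 8 ∧ mG2.sref 0 (mG2.sref 1 10) = 11 := by
  refine ⟨?_, ?_, ?_, ?_, ?_, ?_, ?_⟩ <;> refine mG2.α_inj ?_ <;> simp only [α_sref] <;> decide +kernel

include hψ

theorem D_G2 : S.D ρ ψ 10 = S.D ρ ψ 11 ∧ S.D ρ ψ 6 = S.D ρ ψ 11 := by
  have h1 := D_sref (S := S) (ρ := ρ) hψ lgG.2.2 1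
  have h2 := D_sref (S := S) (ρ := ρ) hψ lgG.2.1 0
  rw [srG.1] at h1
  rw [srG.2.1] at h2
  exact ⟨h1, h2.trans h1⟩

include e9

theorem D_top : S.D ρ ψ 11 = Nat.card F ^ (m + 1) * finrank ℂ ↥(S.W ρ ψ 11 1 ⊓ S.FS ρ {9, 10}) := by
  have := heis_set (S := S) (ρ := ρ) (T := ∅) (A := {9, 10}) hψ lgG.2.2 one_ne_zero
    (by decide +kernel) (by decide +kernel) (by simp)
  rwa [FS_empty, inf_top_eq, Set.union_empty, Finset.sum_pair (by decide), e9, S.e_lg _ lgG.2.1,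
    Finset.coe_pair] at this

theorem count_G2 (h0 : 0 < S.D ρ ψ 11) (h : ∃ l ≠ 0, ∃ v ≠ 0, v ∈ S.W ρ ψ 6 l ⊓ S.FS ρ {10, 11}) :
    (Nat.card F - 1) * (Nat.card F ^ (m + 1) + Nat.card F ^ m + 1) ≤ finrank ℂ V := by
  have h1 := filt_step (S := S) (ρ := ρ) (T := ∅) hψ lgG.2.2 (d := Nat.card F ^ (m + 1)) fun l hl => by
    rw [FS_empty, inf_top_eq, finrank_W lgG.2.2 hl]
    rw [D_top hψ e9] at h0 ⊢
    exact Nat.le_mul_of_pos_right _ (Nat.pos_of_mul_pos_left h0)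
  have h2 := filt_step (S := S) (ρ := ρ) (T := {11}) hψ lgG.2.1 (d := Nat.card F ^ m) fun l hl => by
    have h3 := heis_one (S := S) (ρ := ρ) (T := ∅) (r := 11) (s := 5) hψ lgG.2.1 hl (by decide +kernel)
      (by simp) (by simp)
    have h4 := heis_one (S := S) (ρ := ρ) (T := {11}) (r := 9) (s := 7) hψ lgG.2.1 hl (by decide +kernel)
      (by simpa using btG (r := 11) (s := 9) [11]) (by simpa using btG (r := 11) (s := 7) [11])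
    rw [FS_empty, inf_top_eq, finrank_W lgG.2.1 hl, (D_G2 hψ).1, insert_empty_eq, h4, e9] at h3
    rw [h4, e9]
    exact Nat.le_mul_of_pos_right _ (Nat.pos_of_mul_pos_left (Nat.pos_of_mul_pos_left (h3 ▸ h0)))
  have h3 := filt_step (S := S) (ρ := ρ) (T := {10, 11}) hψ lgG.1 (d := 1) fun l hl => by
    obtain ⟨l', hl', v, h1, h2, h3⟩ := h
    obtain ⟨g, hg, h4⟩ := exists_tor (S := S) (ρ := ρ) (ψ := ψ) lgG.1 hl' hl
    exact finrank_pos_iff_exists_ne_zero.2 ⟨⟨ρ g v, h4 v h2, mem_FS.2 fun r hr => hg.fx (mem_FS.1 h3 r hr)⟩,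
      fun e => rho_ne_zero g h1 (congrArg Subtype.val e)⟩
  rw [FS_empty, finrank_top, insert_empty_eq] at h1
  rw [mul_add, mul_add]
  omega

include e8

theorem crit_G2 (h0 : 0 < S.D ρ ψ 11) (hc : S.D ρ ψ 11 < 2 * Nat.card F ^ (m + 1))
    (g1 : ∃ g, S.Act g id ∧ (∀ t, Commute g (S.x 11 t)) ∧ ∀ a ∈ S.X 7, g * a * g⁻¹ = a → a = 1)
    (g2 : ∀ c ≠ 0, ∃ g ∈ S.X 7, ∀ t, ∃ y ∈ S.X 8 ⊔ S.X 9 ⊔ S.X 11,
      S.x 6 t * g = g * (S.x 6 t * (S.x 10 (t * c) * y))) :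
    ∃ l ≠ 0, ∃ v ≠ 0, v ∈ S.W ρ ψ 6 l ⊓ S.FS ρ {10, 11} := by
  have k : ∀ d, Nat.card F ^ (m + 1) * d < 2 * Nat.card F ^ (m + 1) → d ≤ 1 := fun d h => by
    by_contra h2
    exact h.not_ge (by rw [mul_comm]; exact Nat.mul_le_mul_left _ (by omega))
  obtain ⟨l6, l10, l11⟩ := lgG
  have h1 := k _ (D_top (ρ := ρ) hψ e9 ▸ hc)
  obtain ⟨⟨v, hv⟩, h2⟩ := finrank_pos_iff_exists_ne_zero.1 (Nat.pos_of_mul_pos_left (D_top (ρ := ρ) hψ e9 ▸ h0))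
  have v0 : v ≠ 0 := fun e => h2 (Subtype.ext e)
  obtain ⟨g, hg, h3, h4⟩ := g1
  have h5 : S.X 7 ≤ stab ρ v := fpf_le_stab (fun a => (hg 7 a).2) h4 (mem_line h1 hv v0
    ⟨fun t => by rw [← rho_mul, ← (h3 t).eq, rho_mul, hv.1 t, map_smul],
      mem_FS.2 fun r hr => hg.fx (mem_FS.1 hv.2 r hr)⟩) fun a ha => mem_line h1 hv v0
    ⟨inv_W' l11 hv.1 (by decide +kernel) ha, inv_FS hv.2 (by
      simpa using And.intro (btG (r := 9) (s := 7) [9, 10]) (btG (r := 10) (s := 7) [9, 10])) ha⟩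
  obtain ⟨n1, hn1⟩ := S.act 1
  obtain ⟨n0, hn0⟩ := S.act 0
  obtain ⟨l1, hl1, h6⟩ := Act.W (ρ := ρ) hψ hn1 l11 (l11.sref 1) one_ne_zero
  obtain ⟨l, hl, h7⟩ := Act.W (ρ := ρ) hψ hn0 (l11.sref 1) ((l11.sref 1).sref 0) hl1
  have h8 := h7 _ (h6 v hv.1)
  rw [srG.1, srG.2.1] at h8
  have u0 := rho_ne_zero (ρ := ρ) n0 (rho_ne_zero (ρ := ρ) n1 v0)
  have f9 := srG.2.2.2.2.1 ▸ Act.fx hn0 (Act.fx hn1 h5)
  have f8 := srG.2.2.2.2.2.1 ▸ Act.fx hn0 (Act.fx hn1 (mem_FS.1 hv.2 9 (by simp)))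
  have f11 := srG.2.2.2.2.2.2 ▸ Act.fx hn0 (Act.fx hn1 (mem_FS.1 hv.2 10 (by simp)))
  generalize ρ n0 (ρ n1 v) = u at h8 u0 f9 f8 f11
  have h9 := heis_set (S := S) (ρ := ρ) (T := ∅) (A := {8, 11}) hψ l6 hl
    (by decide +kernel) (by decide +kernel) (by simp)
  rw [FS_empty, inf_top_eq, Set.union_empty, Finset.sum_pair (by decide), e8, S.e_lg _ l11,
    Finset.coe_pair, finrank_W l6 hl, (D_G2 hψ).2] at h9
  have hu : u ∈ S.FS ρ {8, 11} := mem_FS.2 (by simp [f8, f11])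
  rw [h9] at hc
  obtain ⟨μ, hμ⟩ := exists_W (S := S) (ρ := ρ) hψ l10 u0 fun a ha => mem_line (k _ hc) ⟨h8, hu⟩ u0
    ⟨inv_W l6 h8 (by decide +kernel) (fun k hk => by
      rw [List.mem_singleton.1 ((btG (r := 6) (s := 10) [11]).2 k hk)]; exact f11) ha,
      inv_FS hu (by simpa using And.intro (btG (r := 8) (s := 10) [8, 11]) (btG (r := 11) (s := 10) [8, 11])) ha⟩
  by_cases hμ0 : μ = 0
  · rw [hμ0, mem_W_zero l10] at hμ
    exact ⟨l, hl, u, u0, h8, mem_FS.2 (by simp [hμ, f11])⟩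
  obtain ⟨a, ha, h10⟩ := g2 (-l / μ) (div_ne_zero (neg_ne_zero.2 hl) hμ0)
  obtain ⟨l', hl', h11⟩ := Act.W (ρ := ρ) hψ hn0 l10 (l10.sref 0) hμ0
  have h12 := h11 _ (inv_W' l10 hμ (by decide +kernel) ha)
  have h13 := Act.fx hn0 ((mem_W_zero (ρ := ρ) (ψ := ψ) (v := ρ a u) l6).1 fun t => by
    obtain ⟨y, hy, e⟩ := h10 t
    rw [← rho_mul, e, rho_mul, rho_mul, rho_mul, sup_le (sup_le f8 f9) f11 hy, hμ, map_smul, h8, smul_smul,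
      ← ψ.map_add_eq_mul, map_smul]
    congr 2
    field_simp
    ring)
  have h14 := Act.fx hn0 (inv_Fx f11 (btG (r := 11) (s := 7) []).1
    (fun k hk => by simpa using (btG (r := 11) (s := 7) []).2 k hk) ha)
  rw [srG.2.1] at h12
  rw [srG.2.2.1] at h13
  rw [srG.2.2.2.1] at h14
  exact ⟨l', hl', _, rho_ne_zero n0 (rho_ne_zero a u0), h12, mem_FS.2 (by simp [h13, h14])⟩

/-- The dichotomy. -/
theorem bound_G2 {t : F} (ht : ρ (S.x 11 t) ≠ 1)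
    (g1 : ∃ g, S.Act g id ∧ (∀ t, Commute g (S.x 11 t)) ∧ ∀ a ∈ S.X 7, g * a * g⁻¹ = a → a = 1)
    (g2 : ∀ c ≠ 0, ∃ g ∈ S.X 7, ∀ t, ∃ y ∈ S.X 8 ⊔ S.X 9 ⊔ S.X 11,
      S.x 6 t * g = g * (S.x 6 t * (S.x 10 (t * c) * y))) :
    (∃ d, 2 * Nat.card F ^ (m + 1) ≤ Nat.card F * d ∧
      (Nat.card F - 1) * (Nat.card F + 1) * d ≤ finrank ℂ V) ∨
    (Nat.card F - 1) * (Nat.card F ^ (m + 1) + Nat.card F ^ m + 1) ≤ finrank ℂ V := by
  have h0 := D_pos hψ lgG.2.2 ht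
  by_cases h1 : 2 * Nat.card F ^ (m + 1) ≤ S.D ρ ψ 11
  · obtain ⟨d, h4, h5⟩ := two_step hψ lgG.2.2 lgG.2.1 (by decide +kernel) (D_G2 (ρ := ρ) hψ).1
    exact .inl ⟨d, h4 ▸ h1, h5⟩
  exact .inr (count_G2 hψ e9 h0 (crit_G2 hψ e8 e9 h0 (not_le.1 h1) g1 g2))

end RG

end Cfsg.Lib.MD
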