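import Cfsg.Agent.Lib.MD.Rep

/-!
Traces on invariant subspaces.
-/

set_option autoImplicit false
set_option linter.unusedSectionVars false

namespace Cfsg.Lib.MD

open Module Cfsg.Lib.Sz Cfsg.Lib.RepDeg Cfsg.Lib.CharDeg LinearMap

variable {G : Type*} [Group G] {V : Type*} [AddCommGroup V] [Module ℂ V] (ρ : G →* End ℂ V)

theorem exists_prj (N : Submodule ℂ V) : ∃ p : End ℂ V, IsProj N p :=
  N.exists_isCompl.elim fun _ h => ⟨_, Submodule.projection_apply_mem h, fun _ =>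
    Submodule.projection_apply_of_mem_left h⟩

/-- The trace on an invariant subspace. -/
noncomputable def trN (N : Submodule ℂ V) (g : G) : ℂ := trace ℂ V (ρ g * (exists_prj N).choose)

/-- The element leaves the subspace invariant. -/
def Iv (N : Submodule ℂ V) (g : G) : Prop := ∀ v ∈ N, ρ g v ∈ N

variable {ρ} {N N' : Submodule ℂ V} {g a : G} {A : Type*} [Group A] {τ : A →* G} {v : V}

theorem mem_Fx_range : v ∈ Fx ρ τ.range ↔ ∀ a, ρ (τ a) v = v :=
  ⟨fun h a => h ⟨a, rfl⟩, fun h _ ⟨a, e⟩ => e ▸ h a⟩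

theorem Iv.top : Iv ρ ⊤ g := fun _ _ => trivial

theorem Iv.inf (h : Iv ρ N g) (h' : Iv ρ N' g) : Iv ρ (N ⊓ N') g := fun v hv => ⟨h v hv.1, h' v hv.2⟩

theorem Iv.mul (h : Iv ρ N g) (h' : Iv ρ N a) : Iv ρ N (g * a) := fun v hv =>
  rho_mul (ρ := ρ) g a v ▸ h _ (h' v hv)

theorem Iv.pow (h : Iv ρ N g) (n : ℕ) : Iv ρ N (g ^ n) := by
  induction n with
  | zero => exact fun v hv => by simpa using hv
  | succ n ih => exact pow_succ g n ▸ ih.mul h

theorem Iv.inv [Finite G] (h : Iv ρ N g) : Iv ρ N g⁻¹ := by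
  rw [inv_eq_of_mul_eq_one_right (b := g ^ (Nat.card G - 1))
    (by rw [← pow_succ', Nat.sub_add_cancel Nat.card_pos, pow_card_eq_one'])]
  exact h.pow _

theorem Iv.fx (h : ∀ a, ∃ b, τ a * g = g * τ b) : Iv ρ (Fx ρ τ.range) g := fun v hv =>
  mem_Fx_range.2 fun a => by
    obtain ⟨b, e⟩ := h a
    rw [← rho_mul, e, rho_mul, mem_Fx_range.1 hv]

variable [FiniteDimensional ℂ V]

theorem trN_eq (h : Iv ρ N g) {p : End ℂ V} (hp : IsProj N p) : trN ρ N g = trace ℂ V (ρ g * p) := by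
  have hq := (exists_prj N).choose_spec
  rw [trN, show ρ g * p = (exists_prj N).choose * (ρ g * p) from
    LinearMap.ext fun v => (hq.map_id _ (h _ (hp.map_mem v))).symm, trace_mul_comm ℂ _ (ρ g * p), mul_assoc]
  exact congrArg _ (congrArg _ (LinearMap.ext fun v => (hp.map_id _ (hq.map_mem v)).symm))

theorem trN_one : trN ρ N 1 = finrank ℂ N := by
  rw [trN, map_one, one_mul, (exists_prj N).choose_spec.trace]

theorem trN_conj (h : Iv ρ N a) (h1 : ∀ v ∈ N, ρ g v ∈ N') (h2 : ∀ v ∈ N', ρ g⁻¹ v ∈ N) :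
    trN ρ N' (g * a * g⁻¹) = trN ρ N a := by
  have hq := (exists_prj N).choose_spec
  have k : ∀ v, ρ g (ρ g⁻¹ v) = v := fun v => by rw [← rho_mul, mul_inv_cancel, map_one, End.one_apply]
  rw [trN_eq (fun v hv => by simpa only [rho_mul] using h1 _ (h _ (h2 v hv)))
    (p := ρ g * (exists_prj N).choose * ρ g⁻¹) ⟨fun v => h1 _ (hq.map_mem _), fun v hv => by
      simp only [End.mul_apply, hq.map_id _ (h2 v hv), k]⟩, trN, ← mul_assoc, ← mul_assoc, ← map_mul,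
    trace_mul_comm, ← mul_assoc, ← map_mul]
  simp

theorem sum_trN [Fintype A] (hA : ∀ a, Iv ρ N (τ a)) (h : Iv ρ (N ⊓ Fx ρ τ.range) g) :
    ∑ a, trN ρ N (g * τ a) = Nat.card A * trN ρ (N ⊓ Fx ρ τ.range) g := by
  have hq := (exists_prj N).choose_spec
  rw [trN_eq h (p := (Nat.card A : ℂ)⁻¹ • ∑ a, ρ (τ a) * (exists_prj N).choose) ⟨fun v => ?_, fun v hv => ?_⟩]
  · simp [trN, Finset.mul_sum, mul_assoc]
  · rw [LinearMap.smul_apply, LinearMap.sum_apply]
    refine Submodule.smul_mem _ _ ⟨Submodule.sum_mem _ fun a _ => hA a _ (hq.map_mem v),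
      mem_Fx_range.2 fun b => ?_⟩
    rw [map_sum]
    exact Fintype.sum_equiv (Equiv.mulLeft b) _ _ fun a => by simp
  · simp [hq.map_id v hv.1, mem_Fx_range.1 hv.2, ← Nat.cast_smul_eq_nsmul ℂ, smul_smul]

theorem sum_trN_one [Fintype A] (hA : ∀ a, Iv ρ N (τ a)) :
    ∑ a, trN ρ N (τ a) = Nat.card A * finrank ℂ ↥(N ⊓ Fx ρ τ.range) := by
  simpa [trN_one] using sum_trN (g := 1) hA fun v hv => by simpa using hv

theorem trN_fpf [Finite A] (hA : ∀ a, Iv ρ N (τ a)) (hg : Iv ρ N g) (h : Iv ρ (Fx ρ τ.range) g)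
    (hc : ∀ a, ∃ b, g * τ a = τ b * g * (τ b)⁻¹) : trN ρ (N ⊓ Fx ρ τ.range) g = trN ρ N g := by
  have := Fintype.ofFinite A
  have h0 : (Nat.card A : ℂ) ≠ 0 := by exact_mod_cast Nat.card_pos.ne'
  refine mul_left_cancel₀ h0 ?_
  rw [← sum_trN hA (hg.inf h), Finset.sum_congr rfl (g := fun _ => trN ρ N g) fun a _ => by
    obtain ⟨b, e⟩ := hc a
    rw [e, trN_conj hg (hA b) (map_inv τ b ▸ hA b⁻¹)]]
  simp

/-- The cyclic group generated by an element of order three. -/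
def cyc3 (g : G) (h : g ^ 3 = 1) : Multiplicative (ZMod 3) →* G :=
  MonoidHom.mk' (fun i => g ^ (Multiplicative.toAdd i).val) fun a b => by
    rw [← pow_add, toAdd_mul, ZMod.val_add, ← pow_eq_pow_mod _ h]

theorem trN_three (h : g ^ 3 = 1) (hg : Iv ρ N g) : finrank ℂ N + trN ρ N g + trN ρ N (g * g) =
    3 * finrank ℂ ↥(N ⊓ Fx ρ (cyc3 g h).range) := by
  have := sum_trN_one (ρ := ρ) (N := N) (τ := cyc3 g h) fun a => hg.pow _
  rw [← trN_one (ρ := ρ)]
  refine Eq.trans ?_ (this.trans (by simp))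
  rw [← Multiplicative.ofAdd.sum_comp]
  refine Eq.trans ?_ (Fin.sum_univ_three (fun i : ZMod 3 => trN ρ N (g ^ i.val))).symm
  exact congrArg₂ _ (congrArg₂ _ (congrArg _ (pow_zero g).symm) (congrArg _ (pow_one g).symm))
    (congrArg _ (sq g).symm)

end Cfsg.Lib.MD
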