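import Cfsg.Agent.Lib.MD.G2
import Cfsg.Agent.Lib.MD.Tr
import Cfsg.Agent.Lib.Twisted.Datum

/-!
Weight spaces for the root subgroups of G₂(q).
-/

set_option autoImplicit false
set_option linter.unusedSectionVars false
set_option maxRecDepth 100000

namespace Cfsg.Lib.MD.G2

open Module Cfsg.Lie Cfsg.Lib.Sz Cfsg.Lib.RepDeg Cfsg.Lib.CharDeg Cfsg.Lib.Chev Cfsg.Lib.Chev.RootSys
  Cfsg.Lib.Twisted
open scoped commutatorElement

/-- The Chevalley system. -/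
noncomputable def CG (F : Type*) [Field F] : ChevSys mG2 F (chevG2.group F) := sysG checkedG2 F

variable {F : Type*} [Field F]

/-- The root elements. -/
noncomputable def x (r : Fin 12) (t : F) : chevG2.group F := (CG F).x r t

theorem x_add (r : Fin 12) (t u : F) : x r t * x r u = x r (t + u) := ((CG F).x_add r t u).symm

@[simp] theorem x_zero (r : Fin 12) : x r (0 : F) = 1 := (CG F).x_zero r

theorem faith : (CG F).Faithful := sysG_faithful checkedG2 F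

variable (F) in
/-- The root subgroups. -/
noncomputable def xH (r : Fin 12) : Multiplicative F →* chevG2.group F :=
  MonoidHom.mk' (fun t => x r t.toAdd) fun _ _ => (x_add _ _ _).symm

/-- The commutator table. -/
def CT (r s : Fin 12) (L : List (Fin 12 × ℤ × ℕ × ℕ)) : Prop :=
  s.1 ≠ r.1 ∧ s.1 ≠ chevG2.neg r ∧ chevG2.commTerms r s = L.map fun p => (p.1.1, p.2)

instance decCT (r s : Fin 12) (L : List (Fin 12 × ℤ × ℕ × ℕ)) : Decidable (CT r s L) :=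
  inferInstanceAs (Decidable (_ ∧ _ ∧ _))

theorem sw (r s : Fin 12) (L : List (Fin 12 × ℤ × ℕ × ℕ)) (h : CT r s L := by decide +kernel) (t u : F) :
    x s u * x r t = x r t * x s u *
      (L.map fun a => x a.1 ((a.2.1 : F) * (-t) ^ a.2.2.1 * u ^ a.2.2.2)).prod := by
  have k : ∀ (r : Fin 12) (t : F), xN checkedG2 r t = x r t := xN_val checkedG2
  simpa only [List.map_map, Function.comp_def, k] using xN_comm checkedG2 ⟨r.2, s.2, h⟩ t u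

/-- The simple reflections. -/
def wG : Fin 2 → Fin 12 → Fin 12 :=
  ![![0, 5, 3, 2, 7, 1, 10, 4, 9, 8, 6, 11], ![1, 0, 2, 4, 3, 6, 5, 8, 7, 9, 11, 10]]

theorem sref_G (i : Fin 2) (r : Fin 12) : mG2.sref i r = wG i r := mG2.α_inj (by
  rw [α_sref]
  revert i r
  decide +kernel)

variable {V : Type*} [AddCommGroup V] [Module ℂ V] (ρ : chevG2.group F →* End ℂ V) (ψ : AddChar F ℂ)

/-- The eigenspace of a root subgroup. -/
noncomputable def Ev (r : Fin 12) (l : F) : Submodule ℂ V := wt (fun t => ρ (x r t)) fun t => ψ (t * l)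

/-- Joint eigenspaces. -/
noncomputable def W (Z P : List (Fin 12)) (ls : List F) : Submodule ℂ V :=
  (⨅ r ∈ Z, Ev ρ ψ r 0) ⊓ ⨅ p ∈ P.zip ls, Ev ρ ψ p.1 p.2

variable {ρ ψ} {r s k : Fin 12} {l l' t u : F} {v : V} {Z P : List (Fin 12)} {ls : List F}
  {N : Submodule ℂ V} {g : chevG2.group F}

theorem mem_Ev : v ∈ Ev ρ ψ r l ↔ ∀ t, ρ (x r t) v = ψ (t * l) • v := Iff.rfl

theorem mem_W : v ∈ W ρ ψ Z P ls ↔
    (∀ r ∈ Z, v ∈ Ev ρ ψ r 0) ∧ ∀ p ∈ P.zip ls, v ∈ Ev ρ ψ p.1 p.2 := by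
  simp only [W, Submodule.mem_inf, Submodule.mem_iInf]

theorem W_zero : W ρ ψ Z P ls ⊓ Ev ρ ψ r 0 = W ρ ψ (r :: Z) P ls := by
  ext v
  simp only [Submodule.mem_inf, mem_W, List.forall_mem_cons]
  tauto

theorem W_cons : W ρ ψ Z P ls ⊓ Ev ρ ψ r l = W ρ ψ Z (r :: P) (l :: ls) := by
  ext v
  simp only [Submodule.mem_inf, mem_W, List.zip_cons_cons, List.forall_mem_cons]
  tauto

theorem W_nil : W ρ ψ [] [] [] = ⊤ := by simp [W]

theorem Fx_xH : Fx ρ (xH F r).range = Ev ρ ψ r 0 :=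
  Submodule.ext fun v => mem_Fx_range.trans (by simp [mem_Ev, xH, Multiplicative.forall])

theorem ev_of {d : F} (hv : v ∈ Ev ρ ψ s l)
    (h : ∀ u, ρ (x s u) (ρ g v) = ψ (u * d) • ρ g (ρ (x s u) v)) : ρ g v ∈ Ev ρ ψ s (l + d) :=
  mem_Ev.2 fun u => by rw [h, mem_Ev.1 hv u, map_smul, smul_smul, ← ψ.map_add_eq_mul, mul_add, add_comm]

theorem sw0 (r s : Fin 12) (h : CT r s [] := by decide +kernel) :
    ρ (x s u) (ρ (x r t) v) = ρ (x r t) (ρ (x s u) v) := by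
  rw [← rho_mul, sw r s [] h, rho_mul, rho_mul]
  simp

theorem sw1 (r s k : Fin 12) (c : ℤ) (hv : v ∈ Ev ρ ψ k l) (h : CT r s [(k, c, 1, 1)] := by decide +kernel) :
    ρ (x s u) (ρ (x r t) v) = ψ (u * -(c * t * l)) • ρ (x r t) (ρ (x s u) v) := by
  rw [← rho_mul, sw r s _ h, rho_mul, rho_mul]
  simp only [List.map, List.prod_cons, List.prod_nil, mul_one, mem_Ev.1 hv, map_smul]
  congr 2
  ring

theorem sw76 {a b c d : F} (h8 : v ∈ Ev ρ ψ 8 a) (h9 : v ∈ Ev ρ ψ 9 b) (h10 : v ∈ Ev ρ ψ 10 c)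
    (h11 : v ∈ Ev ρ ψ 11 d) : ρ (x 6 u) (ρ (x 7 t) v) =
      ψ (u * (t * a + t ^ 2 * b - t ^ 3 * c - t ^ 3 * u * d)) • ρ (x 7 t) (ρ (x 6 u) v) := by
  rw [← rho_mul, sw 7 6 [(8, -1, 1, 1), (9, 1, 2, 1), (10, 1, 3, 1), (11, 1, 3, 2)], rho_mul, rho_mul]
  simp only [List.map, List.prod_cons, List.prod_nil, mul_one, rho_mul, mem_Ev.1 h8, mem_Ev.1 h9,
    mem_Ev.1 h10, mem_Ev.1 h11, map_smul, smul_smul, ← ψ.map_add_eq_mul]
  congr 2
  push_cast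
  ring

theorem iv_W (b : Bool) (hb : b → (3 : F) = 0) (r : Fin 12) (Z P : List (Fin 12))
    (h : ∀ s ∈ Z ++ P, s = r ∨ s.1 ≠ chevG2.neg r ∧ ∀ a ∈ chevG2.commTerms r s,
      a.1 ∈ Z.map Fin.val ∨ b ∧ 3 ∣ a.2.1 := by decide +kernel) (t : F) : Iv ρ (W ρ ψ Z P ls) (x r t) := by
  intro v hv
  have k : ∀ s ∈ Z ++ P, ∀ l, v ∈ Ev ρ ψ s l → ρ (x r t) v ∈ Ev ρ ψ s l := fun s hs l h1 =>
    mem_Ev.2 fun u => by
    by_cases e : s = r
    · rw [← rho_mul, e, x_add, add_comm, ← x_add, rho_mul, ← e, mem_Ev.1 h1 u, map_smul]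
    obtain ⟨h2, h3⟩ := (h s hs).resolve_left e
    have k : ∀ (r : Fin 12) (t : F), xN checkedG2 r t = x r t := xN_val checkedG2
    rw [← rho_mul, ← k, ← k, xN_comm checkedG2 ⟨r.2, s.2, Fin.val_ne_of_ne e, h2, rfl⟩, rho_mul, rho_mul,
      k, k, mem_stab.1 (Subgroup.list_prod_mem _ fun g hg => ?_), mem_Ev.1 h1 u, map_smul]
    obtain ⟨a, ha, rfl⟩ := List.mem_map.1 hg
    rcases h3 a ha with h4 | ⟨h4, c, h5⟩
    · obtain ⟨m, hm, e⟩ := List.mem_map.1 h4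
      rw [← e, k, mem_stab, (mem_W.1 hv).1 m hm]
      simp
    · simp [h5, hb h4]
  exact mem_W.2 ⟨fun s hs => k s (by simp [hs]) _ ((mem_W.1 hv).1 s hs), fun p hp =>
    k p.1 (by simp [(List.of_mem_zip hp).1]) _ ((mem_W.1 hv).2 p hp)⟩

theorem ev_acts {w : Equiv.Perm (Fin 12)} {c : Fin 12 → Fˣ} (h : (CG F).Acts g w c) (hv : v ∈ Ev ρ ψ r l) :
    ρ g v ∈ Ev ρ ψ (w r) (l / c r) := mem_Ev.2 fun t => by
  have := h.conj' r (t / c r)
  rw [mul_div_cancel₀ _ (c r).ne_zero] at this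
  rw [← rho_mul, show x (w r) t * g = _ from this.symm, rho_mul, show ρ ((CG F).x r _) v = _ from mem_Ev.1 hv _,
    map_smul, div_mul_eq_mul_div, mul_div_assoc]

variable (F) in
/-- The monomial elements. -/
noncomputable def n (i : Fin 2) : chevG2.group F := (CG F).n (mG2.simple i) 1

/-- The signs. -/
noncomputable def sg (i : Fin 2) (r : Fin 12) (l : F) : F := l / (CG F).η i r

theorem sg_ne {i : Fin 2} (h : l ≠ 0) : sg i r l ≠ 0 := div_ne_zero h (Units.ne_zero _)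

theorem nE (i : Fin 2) (s : Fin 12) (hv : v ∈ Ev ρ ψ r l) (h : wG i r = s := by decide +kernel) :
    ρ (n F i) v ∈ Ev ρ ψ s (sg i r l) := h ▸ sref_G i r ▸ ev_acts ((CG F).acts_n_simple i) hv

theorem nE0 (i : Fin 2) (r : Fin 12) (hv : ρ (n F i) v ∈ Ev ρ ψ s 0) (h : wG i r = s := by decide +kernel) :
    v ∈ Ev ρ ψ r 0 := by
  have := ev_acts ((CG F).acts_n_simple i).inv hv
  rwa [← rho_mul, ← h, ← sref_G, n, inv_mul_cancel, map_one, End.one_apply, Equiv.Perm.inv_def,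
    Equiv.symm_apply_apply, zero_div] at this

theorem nW (i : Fin 2) (Z' P' : List (Fin 12)) (hv : v ∈ W ρ ψ Z P ls)
    (h : (∀ s ∈ Z', ∃ r ∈ Z, wG i r = s) ∧ P.map (wG i) = P' := by decide +kernel) :
    ρ (n F i) v ∈ W ρ ψ Z' P' (List.zipWith (sg i) P ls) := by
  obtain ⟨h, rfl⟩ := h
  refine mem_W.2 ⟨fun s hs => ?_, ?_⟩
  · obtain ⟨r, hr, rfl⟩ := h s hs
    simpa [sg] using nE i _ ((mem_W.1 hv).1 r hr) rfl
  have := (mem_W.1 hv).2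
  clear hv
  induction P generalizing ls with
  | nil => simp
  | cons r P ih =>
    cases ls with
    | nil => simp
    | cons l ls =>
      simp only [List.zip_cons_cons, List.forall_mem_cons, List.map_cons, List.zipWith_cons_cons] at this ⊢
      exact ⟨nE i _ this.1 rfl, ih this.2⟩

theorem hE (γ : Fin 12) (c : Fˣ) (m : ℤ) (hv : v ∈ Ev ρ ψ r l) (h : mG2.pair γ r = m := by decide +kernel) :
    ρ ((CG F).h γ c) v ∈ Ev ρ ψ r (l / c ^ m) := by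
  simpa [h] using ev_acts ((CG F).acts_h γ c) hv

theorem hE0 (γ : Fin 12) (c : Fˣ) (hv : ∀ r ∈ Z, v ∈ Ev ρ ψ r 0) :
    ∀ r ∈ Z, ρ ((CG F).h γ c) v ∈ Ev ρ ψ r 0 := fun r hr => by simpa using hE γ c _ (hv r hr) rfl

theorem tor1 (r : Fin 12) (hl : l ≠ 0) (hl' : l' ≠ 0) :
    ∃ γ c, ∀ Z, ∀ v ∈ W ρ ψ Z [r] [l], ρ ((CG F).h γ c) v ∈ W ρ ψ Z [r] [l'] := by
  obtain ⟨γ, h⟩ := (by decide +kernel : ∀ r, ∃ γ, mG2.pair γ r = 1) r
  refine ⟨γ, Units.mk0 _ (div_ne_zero hl hl'), fun Z v hv => mem_W.2 ⟨hE0 _ _ (mem_W.1 hv).1, ?_⟩⟩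
  simpa [hl] using hE γ (Units.mk0 _ (div_ne_zero hl hl')) 1 ((mem_W.1 hv).2 (r, l) (by simp)) h

theorem tor2 (γ : Fin 12) {m : F} (hl : l ≠ 0) (hl' : l' ≠ 0) (hv : v ∈ W ρ ψ Z [r, s] [l, m])
    (h : mG2.pair γ r = 1 ∧ mG2.pair γ s = 0 := by decide +kernel) :
    ∃ g, ρ g v ∈ W ρ ψ Z [s, r] [m, l'] := by
  refine ⟨(CG F).h γ (Units.mk0 _ (div_ne_zero hl hl')), mem_W.2 ⟨hE0 _ _ (mem_W.1 hv).1, ?_⟩⟩
  simpa [hl] using And.intro (hE γ (Units.mk0 _ (div_ne_zero hl hl')) 0 ((mem_W.1 hv).2 (s, m) (by simp)) h.2)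
    (hE γ (Units.mk0 _ (div_ne_zero hl hl')) 1 ((mem_W.1 hv).2 (r, l) (by simp)) h.1)

variable [Finite F] [FiniteDimensional ℂ V] (hψ : ψ ≠ 1)

theorem dim_tor (Z : List (Fin 12)) (r : Fin 12) (hl : l ≠ 0) (hl' : l' ≠ 0) :
    finrank ℂ (W ρ ψ Z [r] [l]) = finrank ℂ (W ρ ψ Z [r] [l']) := by
  obtain ⟨γ, c, h⟩ := tor1 (ρ := ρ) (ψ := ψ) r hl hl'
  obtain ⟨γ', c', h'⟩ := tor1 (ρ := ρ) (ψ := ψ) r hl' hl
  exact le_antisymm (finrank_le_of_map ρ _ (h Z)) (finrank_le_of_map ρ _ (h' Z))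

theorem pos_iff : 0 < finrank ℂ N ↔ ∃ v ∈ N, v ≠ 0 := by
  rw [finrank_pos_iff, Submodule.nontrivial_iff_ne_bot, Submodule.ne_bot_iff]

include hψ

theorem ev_unique (h0 : v ≠ 0) (h : v ∈ Ev ρ ψ r l) (h' : v ∈ Ev ρ ψ r l') : l = l' :=
  eq_of_addChar hψ fun t => by
    simpa [mul_comm] using smul_left_injective ℂ h0 ((h t).symm.trans (h' t))

theorem ev_inj : Function.Injective fun (l t : F) => ψ (t * l) := fun _ _ e =>
  eq_of_addChar hψ fun t => by simpa [mul_comm] using congrFun e t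

theorem filt (r : Fin 12) {d : ℕ} (h : ∀ l ≠ 0, d ≤ finrank ℂ (W ρ ψ Z (r :: P) (l :: ls))) :
    (Nat.card F - 1) * d + finrank ℂ (W ρ ψ (r :: Z) P ls) ≤ finrank ℂ (W ρ ψ Z P ls) := by
  have := card_mul_add_le (fun t => ρ (x r t)) (W ρ ψ Z P ls) (J := Fˣ) (χ := fun l t => ψ (t * l))
    (fun a b e => Units.ext (ev_inj hψ e)) (χ₀ := fun t => ψ (t * 0))
    (fun l e => l.ne_zero (ev_inj hψ e)) (d := d) fun l => (h l l.ne_zero).trans_eq (by rw [← W_cons]; rfl)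
  rwa [Nat.card_units, ← Ev, W_zero] at this

theorem filt_eq (r : Fin 12) (h : ∀ t, Iv ρ N (x r t)) {d : ℕ}
    (hd : ∀ l ≠ 0, finrank ℂ ↥(N ⊓ Ev ρ ψ r l) = d) :
    finrank ℂ N = (Nat.card F - 1) * d + finrank ℂ ↥(N ⊓ Ev ρ ψ r 0) := by
  classical
  have := Fintype.ofFinite F
  let σ : Representation ℂ (Multiplicative F) N :=
    Representation.subrepresentation (ρ.comp (xH F r)) N fun a => h _
  have h1 := trace_eq_sum_wt (ι := Unit) hψ σ (x := fun u => Multiplicative.ofAdd (u ()))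
    (fun _ _ => rfl) 0
  rw [Fintype.sum_equiv (Equiv.funUnique Unit F) _ (fun l => (finrank ℂ ↥(N ⊓ Ev ρ ψ r l) : ℂ)) fun a => ?_,
    ← Finset.add_sum_erase _ _ (Finset.mem_univ 0),
    Finset.sum_congr rfl fun l hl => by rw [hd l (Finset.mem_erase.1 hl).1]] at h1
  · rw [add_comm]
    simp only [Pi.zero_apply, ofAdd_zero, map_one, LinearMap.trace_one, Finset.sum_const,
      Finset.card_erase_of_mem (Finset.mem_univ _), Finset.card_univ, nsmul_eq_mul] at h1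
    rw [Nat.card_eq_fintype_card]
    exact_mod_cast h1
  rw [dotProduct_zero, ψ.map_zero_eq_one, one_mul, ← Submodule.finrank_map_subtype_eq N]
  refine congrArg (fun S : Submodule ℂ V => (finrank ℂ S : ℂ)) (Submodule.ext fun v => ⟨?_, fun hv =>
    ⟨⟨v, hv.1⟩, fun u => Subtype.ext (by simpa [dotProduct, mul_comm] using! hv.2 (u ())), rfl⟩⟩)
  rintro ⟨w, hw, rfl⟩
  exact ⟨w.2, fun t => by simpa [dotProduct, mul_comm] using! congrArg Subtype.val (hw fun _ => t)⟩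

variable [Finite (chevG2.group F)]

theorem exists_ev (r : Fin 12) (h : ∀ t, Iv ρ N (x r t)) (hv : v ∈ N) (h0 : v ≠ 0) :
    ∃ l, ∃ w ∈ N ⊓ Ev ρ ψ r l, w ≠ 0 := by
  obtain ⟨χ, w, h1, h2, h3⟩ := exists_wt (f := fun t => ρ (x r t))
    (fun t u => by rw [← map_mul, ← map_mul, x_add, x_add, add_comm]) (N.ne_bot_iff.2 ⟨v, hv, h0⟩) h
  obtain ⟨b, hb⟩ := exists_eq_mul hψ (χ := χ) (fun t u => wt_mul ρ h3 h2 (x_add r t u)) (wt_ne_zero ρ h3 h2)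
  exact ⟨b, w, ⟨h1, mem_Ev.2 fun t => hb t ▸ h3 t⟩, h2⟩

theorem exists_ev_ne (r : Fin 12) (h : ∀ t, Iv ρ N (x r t)) (hv : v ∈ N) (h0 : v ∉ Ev ρ ψ r 0) :
    ∃ l ≠ 0, ∃ w ∈ N ⊓ Ev ρ ψ r l, w ≠ 0 := by
  obtain ⟨t, ht⟩ := not_forall.1 h0
  obtain ⟨χ, h4, w, h1, h2, h3⟩ := exists_isWt_ne_one (f := fun t => ρ (x r t))
    (fun t u => by rw [← map_mul, ← map_mul, x_add, x_add, add_comm]) h (i := t) Nat.card_pos.ne'
    (rho_pow_card ρ _) hv (by simpa using ht)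
  obtain ⟨b, hb⟩ := exists_eq_mul hψ (χ := χ) (fun t u => wt_mul ρ h3 h2 (x_add r t u)) (wt_ne_zero ρ h3 h2)
  exact ⟨b, by rintro rfl; simp [hb] at h4, w, ⟨h1, mem_Ev.2 fun t => hb t ▸ h3 t⟩, h2⟩

theorem heisN (r s : Fin 12) (hr : ∀ t, Iv ρ N (x r t)) (hs : ∀ t, Iv ρ N (x s t))
    (h : ∀ a ≠ 0, ∀ z, ∃ b, ∀ v ∈ N, ρ (x r a) (ρ (x s b) v) = ψ z • ρ (x s b) (ρ (x r a) v)) :
    finrank ℂ N = Nat.card F * finrank ℂ ↥(N ⊓ Ev ρ ψ r 0) := by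
  have h1 : Nat.card (xH F r).range = Nat.card F :=
    (Nat.card_congr (MonoidHom.ofInjective (f := xH F r)
      fun a b e => (faith (F := F)).x_inj (r := r) e).toEquiv).symm
  rw [← Fx_xH, ← h1]
  refine heis (B := (xH F s).range) (by rintro _ ⟨a, rfl⟩; exact hr _) (by rintro _ ⟨a, rfl⟩; exact hs _) ?_
  rintro _ ⟨a, rfl⟩ ha
  obtain ⟨z, hz⟩ := AddChar.ne_one_iff.1 hψ
  obtain ⟨b, hb⟩ := h a.toAdd (by rintro rfl; exact ha (map_one _)) z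
  refine ⟨_, ⟨.ofAdd b, rfl⟩, _, hz, fun v hv => ?_⟩
  rw [commutatorElement_def, rho_mul, rho_mul, rho_mul, ← map_inv, ← map_inv]
  refine (hb _ (hr _ _ (hs _ _ hv))).trans (congrArg _ ?_)
  rw [← rho_mul (x r _), x_add, toAdd_inv, add_neg_cancel, x_zero, map_one, End.one_apply, ← rho_mul, x_add]
  simp

theorem heis1 (r s k : Fin 12) (c : ℤ) (hc : (c : F) ≠ 0) (hl : l ≠ 0) (hN : N ≤ Ev ρ ψ k l)
    (hr : ∀ t, Iv ρ N (x r t)) (hs : ∀ t, Iv ρ N (x s t)) (h : CT s r [(k, c, 1, 1)] := by decide +kernel) :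
    finrank ℂ N = Nat.card F * finrank ℂ ↥(N ⊓ Ev ρ ψ r 0) :=
  heisN hψ r s hr hs fun a ha z => ⟨-z / (a * c * l), fun v hv => by
    rw [sw1 s r k c (hN hv) h]
    congr 2
    field_simp⟩

end Cfsg.Lib.MD.G2
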