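import Cfsg.Agent.Lib.MD.G2B
import Cfsg.Agent.Lib.Chev.MinGrp
import Cfsg.Agent.Lib.Grp.SylThree

/-!
The long root subgroup SL₃(q) of G₂(q).
-/

set_option autoImplicit false
set_option maxRecDepth 100000

namespace Cfsg.Lib.MD.G2

open Cfsg.Lie Cfsg.Lib.Chev Cfsg.Lib.Chev.RootSys Cfsg.Lib.Grp Matrix
open scoped MatrixGroups

variable {F : Type*} [Field F]

/-- The long roots. -/
def rA (r : Fin 3 × Fin 3) : Fin 12 := ![![0, 6, 11], ![5, 0, 10], ![0, 1, 0]] r.1 r.2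

theorem exists_pi [Finite F] : ∃ π : SL(3, F) →* chevG2.group F,
    ∀ i j (h : i ≠ j) a, π (SpecialLinearGroup.transvection h a) = x (rA (i, j)) a := by
  have hadd : ∀ (r : RtA 3) (t u : F), x (rA r) (t + u) = x (rA r) t * x (rA r) u :=
    fun r t u => (x_add _ _ _).symm
  refine ((realSL F 2).exists_hom (full_repA 2) (noA1_of_conn (conn_A 2) le_rfl)
    (repA 2).isTab_tab (y := fun r t => x (rA r) t) (strongComm_A F hadd ?_ ?_) hadd).imp
    fun φ hφ i j h a => hφ ⟨(i, j), h⟩ a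
  · intro r s t u h1 h2
    obtain rfl | h := (by decide +kernel : ∀ r s : RtA 3, r.1.1 ≠ s.1.2 → r.1.2 ≠ s.1.1 →
      r = s ∨ CT (rA s) (rA r) []) r s h1 h2
    · rw [x_add, x_add, add_comm t]
    · simpa using sw _ _ _ h u t
  · intro r s h t u e
    obtain ⟨h1, h2, h3⟩ := (by decide +kernel : ∀ r s : RtA 3, r.1.1 ≠ s.1.2 → r.1.2 = s.1.1 →
      CT (rA s) (rA r) [(rA (r.1.1, s.1.2), -1, 1, 1)] ∧ CT (rA s) (rA (r.1.1, s.1.2)) [] ∧
      CT (rA r) (rA (r.1.1, s.1.2)) []) r s h e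
    rw [sw _ _ _ h1, ← mul_assoc, sw _ _ _ h2, List.map_nil, List.prod_nil, mul_one, mul_assoc, mul_assoc,
      sw _ _ _ h3]
    simp [mul_comm t]

theorem dg3_eq (a b : Fˣ) : dg3 (a, b) =
    (.transvection (show (0 : Fin 3) ≠ 1 by decide) (a : F) * .transvection (show (1 : Fin 3) ≠ 0 by decide) (-(a : F)⁻¹) *
      .transvection (show (0 : Fin 3) ≠ 1 by decide) (a : F)) *
    (.transvection (show (0 : Fin 3) ≠ 1 by decide) (-1) * .transvection (show (1 : Fin 3) ≠ 0 by decide) 1 *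
      .transvection (show (0 : Fin 3) ≠ 1 by decide) (-1)) *
    ((.transvection (show (1 : Fin 3) ≠ 2 by decide) (a * b : F) *
      .transvection (show (2 : Fin 3) ≠ 1 by decide) (-(a * b : F)⁻¹) *
      .transvection (show (1 : Fin 3) ≠ 2 by decide) (a * b : F)) *
    (.transvection (show (1 : Fin 3) ≠ 2 by decide) (-1) * .transvection (show (2 : Fin 3) ≠ 1 by decide) 1 *
      .transvection (show (1 : Fin 3) ≠ 2 by decide) (-1))) := by
  have k : ∀ i j (h : i ≠ j) (t : F), (SpecialLinearGroup.transvection h t).1 =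
      !![1, if i = 0 ∧ j = 1 then t else 0, if i = 0 ∧ j = 2 then t else 0;
        if i = 1 ∧ j = 0 then t else 0, 1, if i = 1 ∧ j = 2 then t else 0;
        if i = 2 ∧ j = 0 then t else 0, if i = 2 ∧ j = 1 then t else 0, 1] := fun i j h t => by
    ext k l
    fin_cases k <;> fin_cases l <;> simp [SpecialLinearGroup.transvection_coe, single]
    all_goals rintro rfl rfl; exact (h rfl).elim
  refine Subtype.ext ?_
  simp [k, coe_dg3, mul_comm, mul_left_comm (b : F), mul_assoc]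

/-- A cyclic permutation matrix. -/
def cy3 : SL(3, F) := mk3 !![0, 0, 1; 1, 0, 0; 0, 1, 0] (by simp [det_fin_three])

theorem cy3_conj (h3 : (3 : F) ≠ 0) {ω : Fˣ} (hω : (ω : F) ^ 2 + ω + 1 = 0) (p : Fˣ × Fˣ) :
    ∃ g : SL(3, F), cy3 * dg3 p = g * dg3 (1, ω) * g⁻¹ := by
  obtain ⟨a, b⟩ := p
  have h9 : (9 : F) ≠ 0 := by simpa [show (3 : F) * 3 = 9 by norm_num] using mul_ne_zero h3 h3
  have h1 : (ω : F)⁻¹ = ω ^ 2 := inv_eq_of_mul_eq_one_right (by linear_combination (ω - 1) * hω)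
  refine ⟨mk3 !![(ω ^ 2 - ω) / (9 * a ^ 2 * b), 1, 1; (ω ^ 2 - ω) / (9 * a ^ 2 * b) * a, ω ^ 2 * a, ω * a;
    (ω ^ 2 - ω) / (9 * a ^ 2 * b) * (a * b), ω * (a * b), ω ^ 2 * (a * b)] ?_,
    eq_mul_inv_of_mul_eq (Subtype.ext ?_)⟩
  · simp [det_fin_three]
    field_simp
    linear_combination (ω ^ 4 - 2 * ω ^ 3 - 2 * ω ^ 2 + 9 * ω - 9) * hω
  · ext i j
    fin_cases i <;> fin_cases j <;> simp [cy3, coe_dg3, h1] <;> field_simp <;>
      first | ring1 | linear_combination (ω - 1) * hω | linear_combination (1 - ω) * hω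

theorem exists_sl3 [Finite F] (h3 : (3 : F) ≠ 0) {ω : Fˣ} (hω : (ω : F) ^ 2 + ω + 1 = 0) :
    ∃ τ : Fˣ × Fˣ →* chevG2.group F, (∀ a b, τ (a, b) = (CG F).h 6 a * (CG F).h 10 (a * b)) ∧
      ∃ c, c ^ 3 = 1 ∧ (∀ p, ∃ p', τ p * c = c * τ p') ∧ ∀ p, (∃ g, c * τ p = g * τ (1, ω) * g⁻¹) ∧
        ∃ g, c * c * τ p = g * (τ (1, ω) * τ (1, ω)) * g⁻¹ := by
  obtain ⟨π, hπ⟩ := exists_pi (F := F)
  have h1 : (cy3 : SL(3, F)) ^ 3 = 1 := Subtype.ext (by simp [cy3, pow_succ, one_fin_three])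
  have h2 : ∀ a b : Fˣ, dg3 (a, b) * cy3 = cy3 * dg3 (b, (a * b)⁻¹) := fun a b => Subtype.ext (by
    simp [cy3, coe_dg3, mul_comm])
  have h4 : ω ^ 3 = 1 := Units.ext (by push_cast; linear_combination (ω - 1) * hω)
  refine ⟨π.comp dg3, fun a b => ?_, π cy3, by rw [← map_pow, h1, map_one], fun ⟨a, b⟩ =>
    ⟨_, by simpa using congrArg π (h2 a b)⟩, fun p => ⟨?_, ?_⟩⟩
  · have e1 : mG2.neg 6 = 5 := by decide +kernel
    have e2 : mG2.neg 10 = 1 := by decide +kernel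
    simp [dg3_eq, hπ, PreSys.h, PreSys.n, e1, e2, x, rA]
  · obtain ⟨g, hg⟩ := cy3_conj h3 hω p
    exact ⟨π g, by simpa using congrArg π hg⟩
  · obtain ⟨g, hg⟩ := cy3_conj h3 hω (p.2⁻¹, (p.1⁻¹ * p.2⁻¹)⁻¹)
    rw [← h2, ← _root_.inv_inj, show (p.1⁻¹, p.2⁻¹) = p⁻¹ from rfl, map_inv, _root_.mul_inv_rev, inv_inv,
      inv_eq_of_mul_eq_one_right ((pow_three _).symm.trans h1), conj_inv, ← map_inv,
      show ((1, ω) : Fˣ × Fˣ)⁻¹ = (1, ω) * (1, ω) from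
        Prod.ext (by simp) (inv_eq_of_mul_eq_one_right ((pow_three _).symm.trans h4))] at hg
    exact ⟨π g, by simpa [-Prod.mk_mul_mk] using congrArg π hg⟩

end Cfsg.Lib.MD.G2
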