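import Cfsg.Agent.Lib.RepDeg.Basic

/-!
Fixed spaces of subgroups acting as one half of a Heisenberg pair.
-/

set_option autoImplicit false

namespace Cfsg.Lib.MD

open Module Cfsg.Lib.Sz Cfsg.Lib.RepDeg Cfsg.Lib.CharDeg
open scoped commutatorElement

variable {G : Type*} [Group G] {V : Type*} [AddCommGroup V] [Module ℂ V] (ρ : G →* End ℂ V)

/-- The stabiliser of a vector. -/
def stab (v : V) : Subgroup G where
  carrier := {g | ρ g v = v}
  one_mem' := by simp
  mul_mem' := fun {a b} ha hb => by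
    change ρ (a * b) v = v
    rw [map_mul, End.mul_apply, show ρ b v = v from hb, show ρ a v = v from ha]
  inv_mem' := fun {a} ha => apply_injective ρ a (by
    rw [← End.mul_apply, ← map_mul, mul_inv_cancel, map_one, End.one_apply, show ρ a v = v from ha])

/-- The vectors fixed by a subgroup. -/
def Fx (H : Subgroup G) : Submodule ℂ V where
  carrier := {v | H ≤ stab ρ v}
  zero_mem' := fun _ _ => map_zero _
  add_mem' := fun {u v} hu hv a ha => by
    change ρ a (u + v) = u + v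
    rw [map_add, show ρ a u = u from hu ha, show ρ a v = v from hv ha]
  smul_mem' := fun c v hv a ha => by
    change ρ a (c • v) = c • v
    rw [map_smul, show ρ a v = v from hv ha]

variable {ρ}

theorem mem_stab {v : V} {g : G} : g ∈ stab ρ v ↔ ρ g v = v := Iff.rfl

theorem mem_Fx {H : Subgroup G} {v : V} : v ∈ Fx ρ H ↔ H ≤ stab ρ v := Iff.rfl

theorem rho_mul (a b : G) (v : V) : ρ (a * b) v = ρ a (ρ b v) := by rw [map_mul, End.mul_apply]

theorem rho_swap {a b : G} {v : V} (h : ⁅b⁻¹, a⁻¹⁆ ∈ stab ρ v) : ρ b (ρ a v) = ρ a (ρ b v) := by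
  conv_rhs => rw [← mem_stab.1 h]
  simp only [← rho_mul, commutatorElement_def]
  congr 2
  group

theorem rho_ne_zero (g : G) {v : V} (h : v ≠ 0) : ρ g v ≠ 0 :=
  fun e => h (apply_injective ρ g (by rw [e, map_zero]))

theorem stab_smul {v : V} {g : G} (h : g ∈ stab ρ v) (c : ℂ) : g ∈ stab ρ (c • v) := by
  rw [mem_stab, map_smul, h]

theorem conj_mem_stab {v : V} {a g : G} : g * a * g⁻¹ ∈ stab ρ (ρ g v) ↔ a ∈ stab ρ v := by
  rw [mem_stab, mem_stab, ← rho_mul, inv_mul_cancel_right, rho_mul]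
  exact (apply_injective ρ g).eq_iff

variable [FiniteDimensional ℂ V] [Finite G]

theorem heis {N : Submodule ℂ V} {A B : Subgroup G} (hA : ∀ a ∈ A, ∀ v ∈ N, ρ a v ∈ N)
    (hB : ∀ b ∈ B, ∀ v ∈ N, ρ b v ∈ N)
    (h : ∀ a ∈ A, a ≠ 1 → ∃ b ∈ B, ∃ c : ℂ, c ≠ 1 ∧ ∀ v ∈ N, ρ ⁅a, b⁆ v = c • v) :
    finrank ℂ N = Nat.card A * finrank ℂ ↥(N ⊓ Fx ρ A) := by
  classical
  have := Fintype.ofFinite A
  let σ : Representation ℂ A N :=
    Representation.subrepresentation (ρ.comp A.subtype) N fun a => hA a a.2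
  have h0 : (Nat.card A : ℂ) ≠ 0 := by exact_mod_cast Nat.card_pos.ne'
  have := invertibleOfNonzero h0
  have h1 := σ.card_inv_mul_sum_char_eq_finrank
  rw [Finset.sum_eq_single 1, σ.char_one, inv_mul_eq_iff_eq_mul₀ h0] at h1
  · have h2 : finrank ℂ σ.invariants = finrank ℂ ↥(N ⊓ Fx ρ A) := by
      rw [← Submodule.finrank_map_subtype_eq N]
      refine congrArg (fun S : Submodule ℂ V => finrank ℂ S) (Submodule.ext fun v => ?_)
      constructor
      · rintro ⟨w, hw, rfl⟩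
        exact ⟨w.2, fun a ha => congrArg Subtype.val (hw ⟨a, ha⟩)⟩
      · rintro ⟨h1, h2⟩
        exact ⟨⟨v, h1⟩, fun a => Subtype.ext (h2 a.2), rfl⟩
    rw [h2] at h1
    exact_mod_cast h1
  · intro a _ ha
    obtain ⟨b, hb, c, hc, e⟩ := h a a.2 (fun e => ha (Subtype.ext e))
    let β : End ℂ N := (ρ b).restrict (hB b hb)
    let β' : End ℂ N := (ρ b⁻¹).restrict (hB _ (inv_mem hb))
    have e1 : β' * β = 1 := LinearMap.ext fun v => Subtype.ext (by
      change ρ b⁻¹ (ρ b v) = v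
      rw [← rho_mul, inv_mul_cancel, map_one, End.one_apply])
    have e2 : σ a = c • (β * (σ a * β')) := LinearMap.ext fun v => Subtype.ext (by
      change ρ a v = c • ρ b (ρ a (ρ b⁻¹ v))
      rw [← e _ (hB b hb _ (hA a a.2 _ (hB _ (inv_mem hb) _ v.2)))]
      simp only [← rho_mul, commutatorElement_def]
      congr 2
      group)
    have e3 := congrArg (LinearMap.trace ℂ N) e2
    rw [map_smul, LinearMap.trace_mul_comm, mul_assoc, e1, mul_one, smul_eq_mul] at e3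
    by_contra h3
    exact hc ((mul_eq_right₀ h3).1 e3.symm)
  · simp

omit [Finite G] in
theorem swap_ne_zero {A B : Subgroup G} [Fintype A] {v : V} (h0 : v ≠ 0) (hB : B ≤ stab ρ v)
    (h1 : ∀ a ∈ A, ∀ b ∈ B, ∃ c : ℂ, ρ ⁅b, a⁆ (ρ a v) = c • ρ a v)
    (h2 : ∀ a ∈ A, a ≠ 1 → ∃ b ∈ B, ρ ⁅b, a⁆ (ρ a v) ≠ ρ a v) : ∑ a : A, ρ a v ≠ 0 := by
  classical
  intro e
  have k : ∀ a b, b ∈ B → ρ b (ρ a v) = ρ ⁅b, a⁆ (ρ a v) := fun a b hb => by
    conv_rhs => rw [← mem_stab.1 (hB hb)]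
    simp only [← rho_mul, commutatorElement_def]
    congr 2
    group
  have h3 := (iSupIndep_wt (fun b : B => ρ b) (χ := id) Function.injective_id) 1
  refine h0 ((Submodule.disjoint_def.1 h3) v (fun b => by simpa using mem_stab.1 (hB b.2)) ?_)
  rw [← Finset.add_sum_erase _ _ (Finset.mem_univ 1), add_eq_zero_iff_eq_neg] at e
  simp only [OneMemClass.coe_one, map_one, End.one_apply] at e
  rw [e]
  refine neg_mem (Submodule.sum_mem _ fun a ha => ?_)
  choose c hc using h1 a a.2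
  obtain ⟨b, hb, h4⟩ := h2 a a.2 fun e => (Finset.mem_erase.1 ha).1 (Subtype.ext e)
  refine Submodule.mem_iSup_of_mem (fun b : B => c b b.2) (Submodule.mem_iSup_of_mem (fun e => h4 ?_) ?_)
  · rw [hc b hb, show c b hb = 1 from congrFun e ⟨b, hb⟩, one_smul]
  · exact fun b => (k a b b.2).trans (hc b b.2)

omit [FiniteDimensional ℂ V] [Finite G] in
theorem sum_mem_Fx (A : Subgroup G) [Fintype A] (v : V) : ∑ a : A, ρ a v ∈ Fx ρ A := fun b hb => by
  rw [mem_stab, map_sum]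
  exact Fintype.sum_equiv (Equiv.mulLeft ⟨b, hb⟩) _ _ fun a => by simp

omit [Finite G] in
theorem exists_smul_of_le_one {N : Submodule ℂ V} (h : finrank ℂ N ≤ 1) {v w : V} (hv : v ∈ N)
    (h0 : v ≠ 0) (hw : w ∈ N) : ∃ c : ℂ, w = c • v := by
  have h1 : (⟨v, hv⟩ : N) ≠ 0 := fun e => h0 (congrArg Subtype.val e)
  have h2 : finrank ℂ N = 1 := le_antisymm h (finrank_pos_iff_exists_ne_zero.2 ⟨_, h1⟩)
  obtain ⟨c, hc⟩ := (finrank_eq_one_iff_of_nonzero' _ h1).1 h2 ⟨w, hw⟩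
  exact ⟨c, (congrArg Subtype.val hc).symm⟩

omit [Finite G] in
theorem mem_line {N : Submodule ℂ V} (h : finrank ℂ N ≤ 1) {v : V} (hv : v ∈ N) (h0 : v ≠ 0) {g : G}
    (hg : ρ g v ∈ N) : g ∈ lineStabRep ρ v :=
  mem_lineStabRep_of_finrank (le_antisymm h (finrank_pos_iff_exists_ne_zero.2
    ⟨⟨v, hv⟩, fun e => h0 (congrArg Subtype.val e)⟩)) hv h0 hg

omit [FiniteDimensional ℂ V] [Finite G] in
theorem comm_le_stab {v : V} {A B : Subgroup G} (hA : A ≤ lineStabRep ρ v) (hB : B ≤ lineStabRep ρ v) :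
    ⁅A, B⁆ ≤ stab ρ v :=
  Subgroup.commutator_le.2 fun _ ha _ hb => commutator_apply_of_mem (hA ha) (hB hb)

omit [FiniteDimensional ℂ V] [Finite G] in
theorem stab_le_line (v : V) : stab ρ v ≤ lineStabRep ρ v := fun _ hg => ⟨1, by simpa using mem_stab.1 hg⟩

end Cfsg.Lib.MD
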