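import Cfsg.Agent.Lib.MD.Rep
import Cfsg.Agent.Lib.Chev.RootComb

/-!
Groups with root subgroups indexed by a root system, and the eigenspaces of the long root
subgroups in a complex representation.
-/

set_option autoImplicit false
set_option linter.unusedSectionVars false

namespace Cfsg.Lib.MD

open Module Cfsg.Lib.Sz Cfsg.Lib.RepDeg Cfsg.Lib.CharDeg Cfsg.Lib.Chev Cfsg.Lib.Chev.RootSys
open scoped commutatorElement

variable {ι Φ : Type} [Fintype ι] [DecidableEq ι] {R : RootSys ι Φ}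

variable (R) in
/-- Long roots. -/
def Lg (β : Φ) : Prop := ∀ s, R.ln s ≤ R.ln β

namespace Lg

variable {β r s k : Φ} (h : Lg R β)
include h

theorem eq_of_two (e : 2 ≤ R.pair β s) : s = β := by
  by_contra h1
  have h2 := R.ln_mul_pair β s
  have h3 := R.ln_pos β
  have h4 := h s
  rw [pair_eq_one h1 e] at h2
  nlinarith

theorem le_two (s : Φ) : R.pair β s ≤ 2 := by
  by_contra e
  obtain rfl := h.eq_of_two (s := s) (by omega)
  simp at e

theorem le_one (e : s ≠ β) : R.pair β s ≤ 1 := not_lt.1 fun h1 => e (h.eq_of_two h1)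

theorem of_ln (e : R.ln s = R.ln β) : Lg R s := fun k => e ▸ h k

theorem sref (i : ι) : Lg R (R.sref i β) := h.of_ln (R.ln_sref i β)

theorem ge_neg_one (e : s ≠ R.neg β) : -1 ≤ R.pair β s := by
  have := h.le_one (s := R.neg s) fun h1 => e (R.neg_eq_iff.1 h1)
  rw [pair_neg_right] at this
  omega

theorem pair_of_add (e : R.α β = R.α r + R.α s) : R.pair β r = 1 := by
  have h1 := RootSys.pair_of_add e β
  have h2 := h.le_one (s := r) fun e' => R.α_ne_zero s (by simpa [e'] using e.symm)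
  have h3 := h.le_one (s := s) fun e' => R.α_ne_zero r (by simpa [e'] using e.symm)
  rw [pair_self] at h1
  omega

theorem of_between (hr : R.pair β r = 1) (hs : R.pair β s = 1) (hk : R.Between r s k) :
    k = β ∧ R.α β = R.α r + R.α s := by
  obtain ⟨i, j, hi, hj, e⟩ := hk.exists_int
  have h1 := pair_of_comb e β
  have h2 := h.le_two k
  rw [hr, hs] at h1
  obtain rfl := h.eq_of_two (s := k) (by omega)
  obtain rfl : i = 1 := by omega
  obtain rfl : j = 1 := by omega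
  exact ⟨rfl, by simpa using e⟩

theorem not_between (hr : 0 ≤ R.pair β r) (k : Φ) : ¬ R.Between β r k := fun hk => by
  obtain ⟨i, j, hi, hj, e⟩ := hk.exists_int
  have h1 := pair_of_comb e β
  rw [pair_self] at h1
  exact hk.ne_left (ne_neg_of_pair (by omega)) (h.eq_of_two (by nlinarith))

theorem exists_pt (hr : R.pair β r = 1) : ∃ s, R.α β = R.α r + R.α s :=
  ⟨R.neg (R.refl β r), by rw [R.α_neg, α_refl, hr]; simp⟩

end Lg

theorem ne_neg_of_lvl {β r s : Φ} (hr : 0 ≤ R.pair β r) (hs : 0 < R.pair β s) : r ≠ R.neg s := by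
  rintro rfl
  rw [pair_neg_right] at hr
  omega

/-- Root subgroups with parametrised long root subgroups. -/
structure RG (R : RootSys ι Φ) (F : Type*) [Field F] (G : Type*) [Group G] where
  X : Φ → Subgroup G
  x : Φ → F → G
  e : Φ → ℕ
  x_add : ∀ β, Lg R β → ∀ t u, x β t * x β u = x β (t + u)
  mem_X : ∀ β, Lg R β → ∀ g, g ∈ X β ↔ ∃ t, x β t = g
  e_lg : ∀ β, Lg R β → e β = 1
  card_X : ∀ r, Nat.card (X r) = Nat.card F ^ e r
  comm : ∀ r s, s ≠ R.neg r → ∀ a ∈ X r, ∀ b ∈ X s, ∀ H : Subgroup G,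
    (∀ k, R.Between r s k → X k ≤ H) → ⁅a, b⁆ ∈ H
  nd : ∀ β r s, Lg R β → R.α β = R.α r + R.α s → ∀ a ∈ X r, a ≠ 1 → ∀ t, ∃ b ∈ X s, ⁅a, b⁆ = x β t
  act : ∀ i, ∃ g, ∀ r a, g * a * g⁻¹ ∈ X (R.sref i r) ↔ a ∈ X r
  tor : ∀ β, Lg R β → ∀ c ≠ 0, ∃ g, (∀ r a, g * a * g⁻¹ ∈ X r ↔ a ∈ X r) ∧
    ∀ t, g * x β t * g⁻¹ = x β (c * t)

namespace RG

variable {F : Type*} [Field F] {G : Type*} [Group G] (S : RG R F G)
  {V : Type*} [AddCommGroup V] [Module ℂ V] (ρ : G →* End ℂ V) (ψ : AddChar F ℂ)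

/-- The element permutes the root subgroups. -/
def Act (g : G) (w : Φ → Φ) : Prop := ∀ r a, g * a * g⁻¹ ∈ S.X (w r) ↔ a ∈ S.X r

/-- The eigenspace of a long root subgroup. -/
noncomputable def W (β : Φ) (l : F) : Submodule ℂ V := wt (fun t => ρ (S.x β t)) fun t => ψ (t * l)

/-- The vectors fixed by a set of root subgroups. -/
noncomputable def FS (T : Set Φ) : Submodule ℂ V := ⨅ r ∈ T, Fx ρ (S.X r)

variable {S ρ ψ} {β r s k : Φ} {l : F} {v : V} {T : Set Φ} {g : G} {w : Φ → Φ}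

theorem mem_W : v ∈ S.W ρ ψ β l ↔ ∀ t, ρ (S.x β t) v = ψ (t * l) • v := Iff.rfl

theorem mem_FS : v ∈ S.FS ρ T ↔ ∀ r ∈ T, S.X r ≤ stab ρ v := by simp [FS, mem_Fx]

theorem x_mem (h : Lg R β) (t : F) : S.x β t ∈ S.X β := (S.mem_X β h _).2 ⟨t, rfl⟩

theorem mem_W_zero (h : Lg R β) : v ∈ S.W ρ ψ β 0 ↔ S.X β ≤ stab ρ v :=
  ⟨fun e a ha => by
    obtain ⟨t, rfl⟩ := (S.mem_X β h _).1 ha
    simpa [mem_stab] using e t, fun e t => by simpa using mem_stab.1 (e (x_mem h t))⟩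

theorem FS_insert : S.FS ρ (insert r T) = S.FS ρ T ⊓ Fx ρ (S.X r) := by
  ext v
  simp [mem_FS, mem_Fx, and_comm]

theorem FS_empty : S.FS ρ ∅ = ⊤ := by simp [FS]

theorem swap (h : r ≠ R.neg s) (hk : ∀ k, R.Between s r k → S.X k ≤ stab ρ v) {a b : G}
    (ha : a ∈ S.X r) (hb : b ∈ S.X s) : ρ b (ρ a v) = ρ a (ρ b v) :=
  rho_swap (S.comm s r h _ (inv_mem hb) _ (inv_mem ha) _ hk)

theorem inv_W (hβ : Lg R β) (hv : v ∈ S.W ρ ψ β l) (h : r ≠ R.neg β)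
    (hk : ∀ k, R.Between β r k → S.X k ≤ stab ρ v) {a : G} (ha : a ∈ S.X r) :
    ρ a v ∈ S.W ρ ψ β l := fun t => by
  rw [swap h hk ha (x_mem hβ t), hv t, map_smul]

theorem inv_W' (hβ : Lg R β) (hv : v ∈ S.W ρ ψ β l) (h : 0 ≤ R.pair β r) {a : G} (ha : a ∈ S.X r) :
    ρ a v ∈ S.W ρ ψ β l :=
  inv_W hβ hv (ne_neg_of_pair (by omega)) (fun k hk => (hβ.not_between h k hk).elim) ha

theorem inv_Fx (hv : S.X s ≤ stab ρ v) (h : r ≠ R.neg s)
    (hk : ∀ k, R.Between s r k → S.X k ≤ stab ρ v) {a : G} (ha : a ∈ S.X r) :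
    S.X s ≤ stab ρ (ρ a v) := fun b hb => by
  rw [mem_stab, swap h hk ha hb, hv hb]

theorem inv_FS (hv : v ∈ S.FS ρ T) (h : ∀ s ∈ T, r ≠ R.neg s ∧ ∀ k, R.Between s r k → k ∈ T)
    {a : G} (ha : a ∈ S.X r) : ρ a v ∈ S.FS ρ T :=
  mem_FS.2 fun s hs => inv_Fx (mem_FS.1 hv s hs) (h s hs).1
    (fun k hk => mem_FS.1 hv k ((h s hs).2 k hk)) ha

theorem Act.fx (h : S.Act g w) (hv : S.X r ≤ stab ρ v) : S.X (w r) ≤ stab ρ (ρ g v) := fun a ha => by
  have := conj_mem_stab (ρ := ρ) (v := v) (a := g⁻¹ * a * g) (g := g)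
  simp only [mul_assoc, mul_inv_cancel_left, mul_inv_cancel, mul_one] at this
  exact this.2 (hv ((h r _).1 (by simpa [mul_assoc] using ha)))

theorem exists_psi (hψ : ψ ≠ 1) (hl : l ≠ 0) : ∃ t, ψ (t * l) ≠ 1 := by
  by_contra! h
  exact hψ (DFunLike.ext _ _ fun u => by simpa [hl] using h (u * l⁻¹))

theorem not_le_stab (hψ : ψ ≠ 1) (hβ : Lg R β) (hl : l ≠ 0) (hv : v ∈ S.W ρ ψ β l) (h0 : v ≠ 0) :
    ¬ S.X β ≤ stab ρ v := fun h => by
  obtain ⟨t, ht⟩ := exists_psi hψ hl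
  have := (hv t).symm.trans (h (x_mem hβ t))
  exact ht (smul_left_injective ℂ h0 (by simpa using this))

variable [Finite F]

theorem exists_W (hψ : ψ ≠ 1) (hβ : Lg R β) (h0 : v ≠ 0) (h : S.X β ≤ lineStabRep ρ v) :
    ∃ l, v ∈ S.W ρ ψ β l := by
  choose c hc using fun t => h (x_mem hβ t)
  obtain ⟨b, hb⟩ := exists_eq_mul hψ (χ := fun t => (c t : ℂ))
    (fun t u => wt_mul ρ (x := S.x β) hc h0 (S.x_add β hβ t u)) fun t => (c t).ne_zero
  exact ⟨b, mem_W.2 fun t => by rw [← hb]; exact hc t⟩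

theorem Act.W (hψ : ψ ≠ 1) (h : S.Act g w) (hβ : Lg R β) (hβ' : Lg R (w β)) (hl : l ≠ 0) :
    ∃ l' ≠ 0, ∀ v ∈ S.W ρ ψ β l, ρ g v ∈ S.W ρ ψ (w β) l' := by
  by_cases h0 : ∀ v ∈ S.W ρ ψ β l, v = 0
  · exact ⟨1, one_ne_zero, fun v hv => by rw [h0 v hv, map_zero]; exact zero_mem _⟩
  push Not at h0
  obtain ⟨u, hu, h0⟩ := h0
  choose f hf using fun t => (S.mem_X β hβ (g⁻¹ * S.x (w β) t * g)).1
    ((h β _).1 (by simpa [mul_assoc] using x_mem hβ' t))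
  have k : ∀ v ∈ S.W ρ ψ β l, ρ g v ∈ wt (fun t => ρ (S.x (w β) t)) fun t => ψ (f t * l) :=
    fun v hv t => by
      rw [← map_smul, ← mem_W.1 hv, hf, ← rho_mul, ← rho_mul]
      simp [mul_assoc]
  obtain ⟨b, hb⟩ := exists_eq_mul hψ (χ := fun t => ψ (f t * l))
    (fun t t' => wt_mul ρ (x := S.x (w β)) (k u hu) (rho_ne_zero g h0) (S.x_add _ hβ' t t'))
    fun t => addChar_ne_zero ψ _
  have k' : ∀ v ∈ S.W ρ ψ β l, ρ g v ∈ S.W ρ ψ (w β) b :=
    fun v hv => mem_W.2 fun t => by rw [← hb]; exact k v hv t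
  refine ⟨b, ?_, k'⟩
  rintro rfl
  refine not_le_stab hψ hβ hl hu h0 fun a ha => ?_
  exact conj_mem_stab.1 ((mem_W_zero hβ').1 (k' u hu) ((h β a).2 ha))

theorem exists_tor (hβ : Lg R β) (hl : l ≠ 0) {l' : F} (hl' : l' ≠ 0) :
    ∃ g, S.Act g id ∧ ∀ v ∈ S.W ρ ψ β l, ρ g v ∈ S.W ρ ψ β l' := by
  obtain ⟨g, h1, h2⟩ := S.tor β hβ (l / l') (div_ne_zero hl hl')
  refine ⟨g, h1, fun v hv => mem_W.2 fun t => ?_⟩
  have := h2 (t * l' / l)
  rw [show l / l' * (t * l' / l) = t by field_simp] at this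
  rw [← this, ← rho_mul, inv_mul_cancel_right, rho_mul, mem_W.1 hv, map_smul, div_mul_cancel₀ _ hl]

variable [FiniteDimensional ℂ V]

variable (S ρ ψ) in
/-- The dimension of the eigenspaces. -/
noncomputable def D (β : Φ) : ℕ := finrank ℂ (S.W ρ ψ β 1)

theorem finrank_W (hβ : Lg R β) (hl : l ≠ 0) : finrank ℂ (S.W ρ ψ β l) = S.D ρ ψ β := by
  obtain ⟨g, -, h⟩ := exists_tor (S := S) (ρ := ρ) (ψ := ψ) hβ hl one_ne_zero
  obtain ⟨g', -, h'⟩ := exists_tor (S := S) (ρ := ρ) (ψ := ψ) hβ one_ne_zero hl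
  exact le_antisymm (finrank_le_of_map ρ g h) (finrank_le_of_map ρ g' h')

theorem D_sref (hψ : ψ ≠ 1) (hβ : Lg R β) (i : ι) : S.D ρ ψ (R.sref i β) = S.D ρ ψ β := by
  have k : ∀ β, Lg R β → S.D ρ ψ β ≤ S.D ρ ψ (R.sref i β) := fun β hβ => by
    obtain ⟨g, hg⟩ := S.act i
    obtain ⟨l, hl, h⟩ := Act.W (ρ := ρ) hψ hg hβ (hβ.sref i) one_ne_zero
    exact (finrank_le_of_map ρ g h).trans_eq (finrank_W (hβ.sref i) hl)
  exact le_antisymm (by simpa using k _ (hβ.sref i)) (k β hβ)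

theorem D_pos (hψ : ψ ≠ 1) [Finite G] (hβ : Lg R β) {t : F} (h : ρ (S.x β t) ≠ 1) : 0 < S.D ρ ψ β := by
  obtain ⟨χ, h1, v, hv, h0⟩ := exists_wt_ne_one (f := fun t => ρ (S.x β t)) (fun t u => by
    rw [← map_mul, ← map_mul, S.x_add β hβ, S.x_add β hβ, add_comm]) h (n := Nat.card G)
    (by exact_mod_cast Nat.card_pos.ne') (rho_pow_card ρ _)
  obtain ⟨b, hb⟩ := exists_eq_mul hψ (χ := χ)
    (fun t u => wt_mul ρ (x := S.x β) hv h0 (S.x_add β hβ t u)) (wt_ne_zero ρ hv h0)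
  rw [← finrank_W hβ (l := b) (by rintro rfl; exact h1 (by simpa using hb t))]
  exact finrank_pos_iff_exists_ne_zero.2 ⟨⟨v, mem_W.2 fun t => by rw [← hb]; exact hv t⟩,
    fun e => h0 (congrArg Subtype.val e)⟩

variable [Finite G]

theorem heis_one (hψ : ψ ≠ 1) (hβ : Lg R β) (hl : l ≠ 0) (e : R.α β = R.α r + R.α s)
    (h1 : ∀ k ∈ T, r ≠ R.neg k ∧ ∀ m, R.Between k r m → m ∈ T)
    (h2 : ∀ k ∈ T, s ≠ R.neg k ∧ ∀ m, R.Between k s m → m ∈ T) :
    finrank ℂ ↥(S.W ρ ψ β l ⊓ S.FS ρ T) =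
      Nat.card F ^ S.e r * finrank ℂ ↥(S.W ρ ψ β l ⊓ S.FS ρ (insert r T)) := by
  rw [FS_insert, ← inf_assoc, ← S.card_X]
  have h3 := hβ.pair_of_add e
  have h4 := hβ.pair_of_add (e.trans (add_comm _ _))
  refine heis (B := S.X s) (fun a ha v hv => ⟨inv_W' hβ hv.1 (by omega) ha, inv_FS hv.2 h1 ha⟩)
    (fun a ha v hv => ⟨inv_W' hβ hv.1 (by omega) ha, inv_FS hv.2 h2 ha⟩) fun a ha h => ?_
  obtain ⟨t, ht⟩ := exists_psi hψ hl
  obtain ⟨b, hb, e⟩ := S.nd β r s hβ e a ha h t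
  exact ⟨b, hb, _, ht, fun v hv => by rw [e]; exact hv.1 t⟩

theorem heis_set (hψ : ψ ≠ 1) (hβ : Lg R β) (hl : l ≠ 0) {A : Finset Φ}
    (h1 : ∀ r ∈ A, R.pair β r = 1) (h2 : ∀ r ∈ A, ∀ s ∈ A, R.α β ≠ R.α r + R.α s)
    (h3 : ∀ r ∈ A, ∀ s, s = r ∨ R.α β = R.α r + R.α s → ∀ k ∈ T,
      s ≠ R.neg k ∧ ∀ m, R.Between k s m → m ∈ T) :
    finrank ℂ ↥(S.W ρ ψ β l ⊓ S.FS ρ T) =
      Nat.card F ^ (∑ r ∈ A, S.e r) * finrank ℂ ↥(S.W ρ ψ β l ⊓ S.FS ρ (A ∪ T)) := by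
  classical
  induction A using Finset.induction_on with
  | empty => rw [Finset.coe_empty, Set.empty_union]; simp
  | insert r A hr ih =>
    have hr' := Finset.mem_insert_self r A
    obtain ⟨s, e⟩ := hβ.exists_pt (h1 r hr')
    have h4 := hβ.pair_of_add (e.trans (add_comm _ _))
    have k : ∀ s', s' = r ∨ s' = s → ∀ k ∈ (A : Set Φ) ∪ T, s' ≠ R.neg k ∧
        ∀ m, R.Between k s' m → m ∈ (A : Set Φ) ∪ T := fun s' hs k hk => by
      rcases hk with hk | hk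
      · have h5 := h1 k (Finset.mem_insert_of_mem hk)
        have h6 : R.pair β s' = 1 := by rcases hs with rfl | rfl; exacts [h1 _ hr', h4]
        refine ⟨ne_neg_of_lvl (β := β) (by omega) (by omega), fun m hm => ?_⟩
        have h7 := (hβ.of_between h5 h6 hm).2
        rcases hs with rfl | rfl
        · exact (h2 _ (Finset.mem_insert_of_mem hk) _ hr' h7).elim
        · exact (hr (R.α_inj (add_right_cancel (e.symm.trans h7)) ▸ hk)).elim
      · have := h3 r hr' s' (hs.imp_right fun h => by rw [h]; exact e) k hk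
        exact ⟨this.1, fun m hm => .inr (this.2 m hm)⟩
    rw [ih (fun r h => h1 r (Finset.mem_insert_of_mem h))
      (fun r h s h' => h2 r (Finset.mem_insert_of_mem h) s (Finset.mem_insert_of_mem h'))
      (fun r h => h3 r (Finset.mem_insert_of_mem h)), heis_one hψ hβ hl e (k r (.inl rfl)) (k s (.inr rfl)),
      Finset.sum_insert hr, Finset.coe_insert, Set.insert_union, pow_add]
    ring

theorem filt_step (hψ : ψ ≠ 1) (hβ : Lg R β) {d : ℕ}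
    (h : ∀ l ≠ 0, d ≤ finrank ℂ ↥(S.W ρ ψ β l ⊓ S.FS ρ T)) :
    (Nat.card F - 1) * d + finrank ℂ (S.FS ρ (insert β T)) ≤ finrank ℂ (S.FS ρ T) := by
  have := card_mul_add_le (fun t => ρ (S.x β t)) (S.FS ρ T) (J := Fˣ) (χ := fun l t => ψ (t * l))
    (fun a b e => Units.ext (eq_of_addChar hψ fun t => by simpa [mul_comm] using congrFun e t))
    (χ₀ := fun t => ψ (t * 0)) (fun l e => l.ne_zero (eq_of_addChar hψ fun t => by
      simpa [mul_comm] using congrFun e t)) (d := d) fun l => by rw [inf_comm]; exact h l l.ne_zero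
  rw [Nat.card_units] at this
  refine le_trans (Nat.add_le_add_left (Submodule.finrank_mono fun v hv => ?_) _) this
  rw [FS_insert] at hv
  exact ⟨hv.1, (mem_W_zero hβ).2 hv.2⟩

/-- The bound from two long roots at an angle of sixty degrees. -/
theorem two_step (hψ : ψ ≠ 1) (hβ : Lg R β) (hr : Lg R r) (h : R.pair β r = 1)
    (hD : S.D ρ ψ r = S.D ρ ψ β) : ∃ d, S.D ρ ψ β = Nat.card F * d ∧
      (Nat.card F - 1) * (Nat.card F + 1) * d ≤ finrank ℂ V := by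
  obtain ⟨s, e⟩ := hβ.exists_pt h
  have k : ∀ l ≠ 0, S.D ρ ψ β = Nat.card F * finrank ℂ ↥(S.W ρ ψ β l ⊓ S.FS ρ {r}) := fun l hl => by
    have := heis_one (S := S) (ρ := ρ) (T := ∅) hψ hβ hl e (by simp) (by simp)
    rwa [FS_empty, inf_top_eq, finrank_W hβ hl, S.e_lg r hr, pow_one, insert_empty_eq] at this
  refine ⟨_, k 1 one_ne_zero, ?_⟩
  have h1 := filt_step (S := S) (ρ := ρ) (T := ∅) hψ hr (d := S.D ρ ψ β) fun l hl => by
    rw [FS_empty, inf_top_eq, finrank_W hr hl, hD]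
  have h2 := filt_step (S := S) (ρ := ρ) (T := {r}) hψ hβ
    (d := finrank ℂ ↥(S.W ρ ψ β 1 ⊓ S.FS ρ {r})) fun l hl =>
      (Nat.eq_of_mul_eq_mul_left Nat.card_pos ((k 1 one_ne_zero).symm.trans (k l hl))).le
  rw [insert_empty_eq, FS_empty, finrank_top, k 1 one_ne_zero] at h1
  nlinarith

end RG

end Cfsg.Lib.MD
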